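import Cfsg.Prelude.Def_Transfer
import Cfsg.Agent.Lib.PLocal.Cores
import Mathlib.GroupTheory.Transfer

/-!
API for `Cfsg.pResidual` and `Cfsg.HasNormalPComplement`.
-/

set_option autoImplicit false
set_option linter.unusedSectionVars false

namespace Cfsg.Agent.Transfer.NormalPComplement

open Cfsg Subgroup Cfsg.Agent.PLocal.Cores

variable {G H : Type*} [Group G] [Group H] {p : ℕ}

/-! ### `pResidual` -/

theorem mem_pResidual_of_coprime {g : G} (h : (orderOf g).Coprime p) : g ∈ pResidual p G :=
  subset_closure h

theorem map_pResidual_le (f : G →* H) : (pResidual p G).map f ≤ pResidual p H := by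
  rw [pResidual, MonoidHom.map_closure, closure_le]
  rintro _ ⟨g, hg, rfl⟩
  exact mem_pResidual_of_coprime (Nat.Coprime.coprime_dvd_left (orderOf_map_dvd f g) hg)

instance pResidual_characteristic : (pResidual p G).Characteristic :=
  characteristic_iff_map_le.mpr fun φ => map_pResidual_le φ.toMonoidHom

instance pResidual_normal : (pResidual p G).Normal := inferInstance

theorem le_pResidual_of_coprime {K : Subgroup G} (h : (Nat.card K).Coprime p) :
    K ≤ pResidual p G := fun x hx =>
  mem_pResidual_of_coprime (Nat.Coprime.coprime_dvd_left (K.orderOf_dvd_natCard hx) h)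

theorem map_subtype_pResidual_le (K : Subgroup G) :
    (pResidual p K).map K.subtype ≤ pResidual p G :=
  map_pResidual_le _

variable [Fact p.Prime]

/-- Some `p`-power of any element of finite order has order prime to `p`. -/
theorem exists_pow_coprime {g : G} (hg : orderOf g ≠ 0) :
    ∃ k : ℕ, (orderOf (g ^ p ^ k)).Coprime p := by
  have hp : p.Prime := Fact.out
  refine ⟨(orderOf g).factorization p, ?_⟩
  rw [orderOf_pow_of_dvd (pow_ne_zero _ hp.ne_zero) (Nat.ordProj_dvd _ _)]
  exact (Nat.coprime_ordCompl hp hg).symm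

theorem mem_of_pow_mem {K : Subgroup G} {g : G} {n : ℕ} (hn : (orderOf g).Coprime n)
    (h : g ^ n ∈ K) : g ∈ K := by
  obtain ⟨m, hm⟩ := exists_pow_eq_self_of_coprime hn.symm
  rw [← hm]
  exact K.pow_mem h m

theorem pow_pResidual_mem [Finite G] (g : G) : ∃ k : ℕ, g ^ p ^ k ∈ pResidual p G := by
  obtain ⟨k, hk⟩ := exists_pow_coprime (p := p) (orderOf_pos g).ne'
  exact ⟨k, mem_pResidual_of_coprime hk⟩

theorem isPGroup_quotient_pResidual [Finite G] : IsPGroup p (G ⧸ pResidual p G) := by
  rw [isPGroup_iff_pow_pow_eq_one]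
  intro x
  obtain ⟨g, rfl⟩ := QuotientGroup.mk_surjective x
  obtain ⟨k, hk⟩ := pow_pResidual_mem (p := p) g
  exact ⟨k, (QuotientGroup.mk_pow _ g (p ^ k)).symm.trans ((QuotientGroup.eq_one_iff _).mpr hk)⟩

theorem index_pResidual [Finite G] : ∃ k : ℕ, (pResidual p G).index = p ^ k :=
  (isPGroup_quotient_pResidual (p := p) (G := G)).exists_card_eq

theorem map_pResidual_of_surjective [Finite G] {f : G →* H} (hf : Function.Surjective f) :
    (pResidual p G).map f = pResidual p H := by
  refine le_antisymm (map_pResidual_le f) ?_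
  rw [pResidual, closure_le]
  intro h hh
  obtain ⟨g, rfl⟩ := hf h
  obtain ⟨k, hk⟩ := pow_pResidual_mem (p := p) g
  refine mem_of_pow_mem (Nat.Coprime.pow_right k hh) ?_
  exact ⟨g ^ p ^ k, hk, map_pow f g _⟩

theorem pResidual_le {N : Subgroup G} [N.Normal] (h : IsPGroup p (G ⧸ N)) : pResidual p G ≤ N := by
  rw [pResidual, closure_le]
  intro g hg
  obtain ⟨k, hk⟩ := isPGroup_iff_pow_pow_eq_one.mp h (g : G ⧸ N)
  rw [← QuotientGroup.mk_pow, QuotientGroup.eq_one_iff] at hk
  exact mem_of_pow_mem (Nat.Coprime.pow_right k hg) hk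

theorem pResidual_le_of_index_eq {N : Subgroup G} [N.Normal] {k : ℕ} (h : N.index = p ^ k) :
    pResidual p G ≤ N :=
  pResidual_le (IsPGroup.of_card (n := k) h)

theorem pResidual_sup_sylow [Finite G] (P : Sylow p G) :
    pResidual p G ⊔ (P : Subgroup G) = ⊤ := by
  rw [← index_eq_one]
  obtain ⟨k, hk⟩ := index_pResidual (p := p) (G := G)
  have h1 : (pResidual p G ⊔ (P : Subgroup G)).index ∣ p ^ k :=
    hk ▸ index_dvd_of_le le_sup_left
  have h2 : (pResidual p G ⊔ (P : Subgroup G)).index ∣ (P : Subgroup G).index :=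
    index_dvd_of_le le_sup_right
  refine Nat.eq_one_of_dvd_coprimes ?_ h1 h2
  exact Nat.Coprime.pow_left k (((Fact.out : p.Prime).coprime_iff_not_dvd).mpr P.not_dvd_index)

/-! ### `HasNormalPComplement` -/

theorem isComplement'_of_coprime_card [Finite G] {N : Subgroup G}
    (hN : (Nat.card N).Coprime p) {k : ℕ} (hk : N.index = p ^ k) (P : Sylow p G) :
    N.IsComplement' (P : Subgroup G) := by
  have hp : p.Prime := Fact.out
  obtain ⟨a, ha⟩ := P.2.exists_card_eq
  have hcop : (Nat.card N).Coprime (Nat.card (P : Subgroup G)) := by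
    rw [ha]; exact Nat.Coprime.pow_right _ hN
  refine isComplement'_of_coprime ?_ hcop
  have hPi : ((P : Subgroup G).index).Coprime p :=
    ((hp.coprime_iff_not_dvd).mpr P.not_dvd_index).symm
  have h1 : Nat.card (P : Subgroup G) ∣ N.index := by
    refine (hcop.symm).dvd_of_dvd_mul_left ?_
    rw [card_mul_index]
    exact card_subgroup_dvd_card _
  have h2 : N.index ∣ Nat.card (P : Subgroup G) := by
    have : N.index ∣ Nat.card (P : Subgroup G) * (P : Subgroup G).index := by
      rw [card_mul_index]; exact index_dvd_card _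
    rw [hk] at this ⊢
    exact (Nat.Coprime.pow_left k hPi.symm).dvd_of_dvd_mul_right this
  rw [Nat.dvd_antisymm h1 h2, card_mul_index]

theorem hasNormalPComplement_iff_exists [Finite G] :
    HasNormalPComplement p G ↔
      ∃ N : Subgroup G, N.Normal ∧ (Nat.card N).Coprime p ∧ ∃ k : ℕ, N.index = p ^ k := by
  have hp : p.Prime := Fact.out
  constructor
  · rintro ⟨P, N, hN, hc⟩
    refine ⟨N, hN, ?_, ?_⟩
    · rw [← hc.index_eq_card]
      exact ((hp.coprime_iff_not_dvd).mpr P.not_dvd_index).symm
    · rw [hc.symm.index_eq_card]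
      exact P.2.exists_card_eq
  · rintro ⟨N, hN, h1, k, h2⟩
    exact ⟨Classical.arbitrary _, N, hN, isComplement'_of_coprime_card h1 h2 _⟩

theorem hasNormalPComplement_iff_pPrimeCore [Finite G] :
    HasNormalPComplement p G ↔ ∃ k : ℕ, (pPrimeCore p G).index = p ^ k := by
  rw [hasNormalPComplement_iff_exists]
  constructor
  · rintro ⟨N, hN, h1, k, h2⟩
    obtain ⟨i, -, hi⟩ := (Nat.dvd_prime_pow (Fact.out : p.Prime)).mp
      (h2 ▸ index_dvd_of_le (le_pPrimeCore h1))
    exact ⟨i, hi⟩
  · rintro ⟨k, hk⟩
    exact ⟨_, inferInstance, coprime_card_pPrimeCore, k, hk⟩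

theorem hasNormalPComplement_iff_isPGroup_quotient [Finite G] :
    HasNormalPComplement p G ↔ IsPGroup p (G ⧸ pPrimeCore p G) := by
  rw [hasNormalPComplement_iff_pPrimeCore, IsPGroup.iff_card]
  rfl

theorem hasNormalPComplement_iff_pPrimePCore [Finite G] :
    HasNormalPComplement p G ↔ pPrimePCore p G = ⊤ := by
  rw [hasNormalPComplement_iff_isPGroup_quotient, isPGroup_iff_pCore_eq_top]
  constructor
  · intro h
    rw [pPrimePCore, h, comap_top]
  · intro h
    rw [← map_pPrimePCore, h, map_top_of_surjective _ (QuotientGroup.mk'_surjective _)]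

theorem pResidual_eq_of_normalPComplement [Finite G] {N : Subgroup G} [N.Normal]
    (hN : (Nat.card N).Coprime p) {k : ℕ} (hk : N.index = p ^ k) : pResidual p G = N :=
  le_antisymm (pResidual_le_of_index_eq hk) (le_pResidual_of_coprime hN)

theorem hasNormalPComplement_iff_pResidual [Finite G] :
    HasNormalPComplement p G ↔ (Nat.card (pResidual p G)).Coprime p := by
  rw [hasNormalPComplement_iff_exists]
  constructor
  · rintro ⟨N, hN, h1, k, h2⟩
    rwa [pResidual_eq_of_normalPComplement h1 h2]
  · intro h
    exact ⟨_, inferInstance, h, index_pResidual⟩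

theorem hasNormalPComplement_iff_sylow [Finite G] (P : Sylow p G) :
    HasNormalPComplement p G ↔
      ∃ N : Subgroup G, N.Normal ∧ N.IsComplement' (P : Subgroup G) := by
  refine ⟨fun h => ?_, fun ⟨N, h⟩ => ⟨P, N, h⟩⟩
  obtain ⟨N, hN, h1, k, h2⟩ := hasNormalPComplement_iff_exists.mp h
  exact ⟨N, hN, isComplement'_of_coprime_card h1 h2 P⟩

theorem pResidual_eq_of_isComplement' [Finite G] {P : Sylow p G} {N : Subgroup G} [N.Normal]
    (hN : N.IsComplement' (P : Subgroup G)) : pResidual p G = N := by
  obtain ⟨k, hk⟩ := P.2.exists_card_eq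
  refine pResidual_eq_of_normalPComplement ?_ (hN.symm.index_eq_card.trans hk)
  rw [← hN.index_eq_card]
  exact (((Fact.out : p.Prime).coprime_iff_not_dvd).mpr P.not_dvd_index).symm

theorem mem_iff_coprime_of_isComplement' [Finite G] {P : Sylow p G} {N : Subgroup G} [N.Normal]
    (hN : N.IsComplement' (P : Subgroup G)) {x : G} : x ∈ N ↔ (orderOf x).Coprime p := by
  constructor
  · intro hx
    refine Nat.Coprime.coprime_dvd_left (N.orderOf_dvd_natCard hx) ?_
    rw [← hN.index_eq_card]
    exact (((Fact.out : p.Prime).coprime_iff_not_dvd).mpr P.not_dvd_index).symm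
  · rw [← pResidual_eq_of_isComplement' hN]
    exact mem_pResidual_of_coprime

theorem HasNormalPComplement.of_injective [Finite G] [Finite H] {f : G →* H}
    (hf : Function.Injective f) (h : HasNormalPComplement p H) : HasNormalPComplement p G := by
  obtain ⟨N, hN, h1, k, h2⟩ := hasNormalPComplement_iff_exists.mp h
  refine hasNormalPComplement_iff_exists.mpr ⟨N.comap f, inferInstance, ?_, ?_⟩
  · refine h1.coprime_dvd_left ?_
    rw [← card_map_of_injective hf]
    exact card_dvd_of_le (map_comap_le _ _)
  · rw [index_comap]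
    obtain ⟨i, -, hi⟩ := (Nat.dvd_prime_pow (Fact.out : p.Prime)).mp
      (h2 ▸ relIndex_dvd_index_of_normal N f.range)
    exact ⟨i, hi⟩

theorem HasNormalPComplement.subgroup [Finite G] (h : HasNormalPComplement p G) (K : Subgroup G) :
    HasNormalPComplement p K :=
  HasNormalPComplement.of_injective K.subtype_injective h

theorem HasNormalPComplement.of_le [Finite G] {K L : Subgroup G} (hKL : K ≤ L)
    (h : HasNormalPComplement p L) : HasNormalPComplement p K :=
  HasNormalPComplement.of_injective (inclusion_injective hKL) h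

theorem HasNormalPComplement.of_surjective [Finite G] [Finite H] {f : G →* H}
    (hf : Function.Surjective f) (h : HasNormalPComplement p G) : HasNormalPComplement p H := by
  rw [hasNormalPComplement_iff_pResidual] at h ⊢
  rw [← map_pResidual_of_surjective hf]
  exact h.coprime_dvd_left (card_map_dvd _ _)

theorem hasNormalPComplement_congr [Finite G] [Finite H] (e : G ≃* H) :
    HasNormalPComplement p G ↔ HasNormalPComplement p H :=
  ⟨HasNormalPComplement.of_surjective (f := e.toMonoidHom) e.surjective,
    HasNormalPComplement.of_injective (f := e.toMonoidHom) e.injective⟩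

theorem HasNormalPComplement.quotient [Finite G] (h : HasNormalPComplement p G) (N : Subgroup G)
    [N.Normal] : HasNormalPComplement p (G ⧸ N) :=
  HasNormalPComplement.of_surjective (QuotientGroup.mk'_surjective N) h

theorem hasNormalPComplement_of_isPGroup [Finite G] (h : IsPGroup p G) :
    HasNormalPComplement p G :=
  hasNormalPComplement_iff_exists.mpr
    ⟨⊥, inferInstance, by rw [card_bot]; exact Nat.coprime_one_left _,
      by rw [index_bot]; exact h.exists_card_eq⟩

theorem hasNormalPComplement_of_coprime [Finite G] (h : (Nat.card G).Coprime p) :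
    HasNormalPComplement p G :=
  hasNormalPComplement_iff_exists.mpr
    ⟨⊤, inferInstance, by rwa [card_top], 0, by rw [index_top, pow_zero]⟩

/-- Extension of a group with a normal `p`-complement by a `p`-group. -/
theorem hasNormalPComplement_of_normal_index [Finite G] {N : Subgroup G} [N.Normal]
    (h : HasNormalPComplement p N) {k : ℕ} (hk : N.index = p ^ k) : HasNormalPComplement p G := by
  obtain ⟨j, hj⟩ := hasNormalPComplement_iff_pPrimeCore.mp h
  have := pPrimeCore_characteristic (p := p) (G := N)
  refine hasNormalPComplement_iff_exists.mpr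
    ⟨(pPrimeCore p N).map N.subtype, inferInstance, ?_, j + k, ?_⟩
  · rw [card_map_of_injective N.subtype_injective]
    exact coprime_card_pPrimeCore
  · rw [index_map_subtype, hj, hk, pow_add]

/-- A quotient by a `p'`-group having a normal `p`-complement. -/
theorem hasNormalPComplement_of_quotient [Finite G] {N : Subgroup G} [N.Normal]
    (hN : (Nat.card N).Coprime p) (h : HasNormalPComplement p (G ⧸ N)) :
    HasNormalPComplement p G := by
  obtain ⟨k, hk⟩ := hasNormalPComplement_iff_pPrimeCore.mp h
  refine hasNormalPComplement_iff_exists.mpr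
    ⟨(pPrimeCore p (G ⧸ N)).comap (QuotientGroup.mk' N), inferInstance, ?_, k, ?_⟩
  · rw [card_comap_eq _ (QuotientGroup.mk'_surjective N), QuotientGroup.ker_mk']
    exact Nat.Coprime.mul_left hN coprime_card_pPrimeCore
  · rw [index_comap_of_surjective _ (QuotientGroup.mk'_surjective N), hk]

/-- Burnside's normal `p`-complement theorem. -/
theorem hasNormalPComplement_of_normalizer_le_centralizer [Finite G] (P : Sylow p G)
    (hP : normalizer (P : Set G) ≤ centralizer (P : Set G)) : HasNormalPComplement p G :=
  ⟨P, _, MonoidHom.normal_ker _, MonoidHom.ker_transferSylow_isComplement' P hP⟩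

end Cfsg.Agent.Transfer.NormalPComplement
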