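import Cfsg.Prelude.Def_Transfer
import Cfsg.Agent.OddLocal.Coprime
import Cfsg.Agent.Lib.PGroups.Basic

/-!
Class two power formula, extraspecial groups.
-/

set_option autoImplicit false

namespace Cfsg.Agent.Transfer.Special

open scoped commutatorElement
open Cfsg Subgroup

variable {G : Type*} [Group G]

theorem commutator_mem_center (hc : commutator G ≤ center G) (u v : G) :
    v * u * v⁻¹ * u⁻¹ ∈ center G := by
  refine hc ?_
  rw [← commutatorElement_def, commutator_def]
  exact commutator_mem_commutator (mem_top v) (mem_top u)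

/-- In class two, `(uv)^p = u^p v^p` for odd `p` when `v ^ p` is central. -/
theorem mul_pow_of_class_two {p : ℕ} [Fact p.Prime] (hp : p ≠ 2)
    (hc : commutator G ≤ center G) (u v : G) (hv : v ^ p ∈ center G) :
    (u * v) ^ p = u ^ p * v ^ p := by
  set c := v * u * v⁻¹ * u⁻¹ with hcdef
  have hcz := commutator_mem_center hc u v
  have hv' : v * u * v⁻¹ = c * u := by rw [hcdef]; group
  have hcu : Commute c u := (mem_center_iff.mp hcz u).symm
  have hcv : Commute c v := (mem_center_iff.mp hcz v).symm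
  have hcp : c ^ p = 1 := by
    have h := OddLocal.Coprime.pow_conj_of_central_commutator hv' hcv p
    rw [← mem_center_iff.mp hv u, mul_assoc] at h
    exact right_eq_mul.mp h
  obtain ⟨k, hk⟩ : p ∣ p.choose 2 :=
    (Fact.out : p.Prime).dvd_choose_self two_ne_zero
      (lt_of_le_of_ne (Fact.out : p.Prime).two_le (Ne.symm hp))
  rw [OddLocal.Coprime.mul_pow_of_central_commutator hv' hcu hcv p, hk, pow_mul, hcp, one_pow,
    one_mul]


/-- An automorphism of an extraspecial group trivial modulo the centre is inner. -/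
theorem exists_inner_of_trivial_mod_center {E : Type*} [Group E] [Finite E] {p : ℕ} [Fact p.Prime]
    (hE : Cfsg.IsExtraspecial p E) (φ : E ≃* E)
    (hφ : ∀ x : E, φ x * x⁻¹ ∈ Subgroup.center E) : ∃ g : E, ∀ x : E, φ x = g * x * g⁻¹ := by
  classical
  obtain ⟨⟨hp, -, hcomm⟩, hZ⟩ := hE
  set Z := Subgroup.center E with hZdef
  have hmem : ∀ g x : E, g * x * g⁻¹ * x⁻¹ ∈ Z := fun g x =>
    hcomm ▸ Subgroup.commutator_mem_commutator (Subgroup.mem_top g) (Subgroup.mem_top x)
  let c : E → E →* ↥Z := fun g =>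
    { toFun := fun x => ⟨g * x * g⁻¹ * x⁻¹, hmem g x⟩
      map_one' := by ext; simp
      map_mul' := fun x y => by
        ext
        show g * (x * y) * g⁻¹ * (x * y)⁻¹ = g * x * g⁻¹ * x⁻¹ * (g * y * g⁻¹ * y⁻¹)
        calc g * (x * y) * g⁻¹ * (x * y)⁻¹
            = g * x * g⁻¹ * ((g * y * g⁻¹ * y⁻¹) * x⁻¹) := by simp [mul_assoc]
          _ = g * x * g⁻¹ * (x⁻¹ * (g * y * g⁻¹ * y⁻¹)) := by
              rw [← (Subgroup.mem_center_iff.1 (hmem g y)) x⁻¹]
          _ = _ := by simp [mul_assoc] }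
  have hker : ∀ g, Z ≤ (c g).ker := by
    intro g x hx
    rw [MonoidHom.mem_ker]
    ext
    show g * x * g⁻¹ * x⁻¹ = 1
    rw [Subgroup.mem_center_iff.1 hx g]; simp
  let F : E → (E ⧸ Z →* ↥Z) := fun g => QuotientGroup.lift Z (c g) (hker g)
  have hF : ∀ g g' : E, F g = F g' → (g : E ⧸ Z) = g' := by
    intro g g' e
    rw [QuotientGroup.eq, Subgroup.mem_center_iff]
    intro x
    have h1 : g * x * g⁻¹ * x⁻¹ = g' * x * g'⁻¹ * x⁻¹ :=
      congrArg Subtype.val (DFunLike.congr_fun e (x : E ⧸ Z))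
    have h2 : g * x * g⁻¹ = g' * x * g'⁻¹ := mul_right_cancel h1
    calc x * (g⁻¹ * g') = g⁻¹ * (g * x * g⁻¹) * g' := by simp [mul_assoc]
      _ = g⁻¹ * g' * x := by rw [h2]; simp [mul_assoc]
  let F' : E ⧸ Z → (E ⧸ Z →* ↥Z) := fun q => F q.out
  have hinj : Function.Injective F' := fun q q' e => by
    have := hF _ _ e
    rwa [QuotientGroup.out_eq', QuotientGroup.out_eq'] at this
  have hfin : Finite (E ⧸ Z →* ↥Z) := Finite.of_injective _ DFunLike.coe_injective
  have hbij := hinj.bijective_of_nat_card_le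
    (Cfsg.Agent.PGroups.Basic.card_hom_le (p := p) (hp.to_quotient Z) hZ.le)
  let ψ : E →* ↥Z :=
    { toFun := fun x => ⟨φ x * x⁻¹, hφ x⟩
      map_one' := by ext; simp
      map_mul' := fun x y => by
        ext
        show φ (x * y) * (x * y)⁻¹ = φ x * x⁻¹ * (φ y * y⁻¹)
        rw [map_mul, mul_inv_rev, mul_assoc, ← mul_assoc (φ y),
          ← Subgroup.mem_center_iff.1 (hφ y) x⁻¹]
        simp [mul_assoc] }
  have hψ : Z ≤ ψ.ker := by
    intro z hz
    rw [← hcomm] at hz
    have : commutator E ≤ ψ.ker := by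
      rw [commutator_def, Subgroup.commutator_le]
      intro a _ b _
      rw [MonoidHom.mem_ker, map_commutatorElement, commutatorElement_eq_one_iff_mul_comm]
      ext
      exact (Subgroup.mem_center_iff.1 (ψ b).2) _
    exact this hz
  obtain ⟨q, hq⟩ := hbij.2 (QuotientGroup.lift Z ψ hψ)
  refine ⟨q.out, fun x => ?_⟩
  have h1 : q.out * x * q.out⁻¹ * x⁻¹ = φ x * x⁻¹ :=
    congrArg Subtype.val (DFunLike.congr_fun hq (x : E ⧸ Z))
  exact (mul_right_cancel h1).symm

end Cfsg.Agent.Transfer.Special
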