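import Cfsg.Agent.Lib.Transfer.NormalPComplement
import Mathlib.GroupTheory.Focal

/-!
Sylow conjugation, Burnside fusion, weakly closed subgroups, the focal subgroup, and the
Frobenius normal `p`-complement criterion.
-/

set_option autoImplicit false
set_option linter.unusedSectionVars false

namespace Cfsg.Agent.Transfer.Fusion

open scoped commutatorElement
open Cfsg Subgroup Cfsg.Agent.PLocal.Cores Cfsg.Agent.Transfer.NormalPComplement

variable {G : Type*} [Group G] {p : ℕ}

/-! ### conjugate subgroups, in the `map` form -/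

theorem mem_map_conj {H : Subgroup G} {g y : G} :
    y ∈ H.map (MulAut.conj g).toMonoidHom ↔ g⁻¹ * y * g ∈ H := by
  constructor
  · rintro ⟨x, hx, rfl⟩
    simpa [mul_assoc] using hx
  · intro h
    exact ⟨_, h, by simp [mul_assoc]⟩

theorem conj_mem_map_conj {H : Subgroup G} {x : G} (hx : x ∈ H) (g : G) :
    g * x * g⁻¹ ∈ H.map (MulAut.conj g).toMonoidHom :=
  ⟨x, hx, by simp⟩

theorem map_conj_mul (H : Subgroup G) (a b : G) :
    H.map (MulAut.conj (a * b)).toMonoidHom =
      (H.map (MulAut.conj b).toMonoidHom).map (MulAut.conj a).toMonoidHom := by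
  ext x
  simp only [mem_map_conj, mul_inv_rev, mul_assoc]

theorem map_conj_one (H : Subgroup G) : H.map (MulAut.conj (1 : G)).toMonoidHom = H := by
  ext x; simp

theorem map_conj_eq_self_iff {H : Subgroup G} {g : G} :
    H.map (MulAut.conj g).toMonoidHom = H ↔ g ∈ normalizer (H : Set G) :=
  mem_normalizer_iff_map_conj_eq.symm

theorem map_conj_inv_cancel (H : Subgroup G) (g : G) :
    (H.map (MulAut.conj g).toMonoidHom).map (MulAut.conj g⁻¹).toMonoidHom = H := by
  rw [← map_conj_mul, inv_mul_cancel, map_conj_one]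

theorem map_conj_le_iff {H K : Subgroup G} {g : G} :
    H.map (MulAut.conj g).toMonoidHom ≤ K ↔ H ≤ K.map (MulAut.conj g⁻¹).toMonoidHom := by
  constructor
  · intro h x hx
    exact mem_map_conj.mpr (by simpa using h (conj_mem_map_conj hx g))
  · intro h y hy
    have := mem_map_conj.mp (h (mem_map_conj.mp hy))
    simpa [mul_assoc] using this

theorem card_map_conj (H : Subgroup G) (g : G) :
    Nat.card ↥(H.map (MulAut.conj g).toMonoidHom) = Nat.card H :=
  card_map_of_injective (MulAut.conj g).injective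

theorem map_conj_le_of_mem {H : Subgroup G} {g : G} (hg : g ∈ H) :
    H.map (MulAut.conj g).toMonoidHom = H :=
  map_conj_eq_self_iff.mpr (le_normalizer hg)

theorem coe_smul_eq_map (P : Sylow p G) (g : G) :
    ((g • P : Sylow p G) : Subgroup G) = (P : Subgroup G).map (MulAut.conj g).toMonoidHom :=
  Sylow.coe_subgroup_smul

theorem mem_smul_sylow_iff {P : Sylow p G} {g x : G} : x ∈ g • P ↔ g⁻¹ * x * g ∈ P := by
  change x ∈ ((g • P : Sylow p G) : Subgroup G) ↔ _
  rw [coe_smul_eq_map, mem_map_conj]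
  rfl

/-! ### Sylow conjugation inside a subgroup -/

variable [Finite G] [Fact p.Prime]

theorem exists_conj_eq_of_le {K : Subgroup G} {P R : Sylow p G} (hP : (P : Subgroup G) ≤ K)
    (hR : (R : Subgroup G) ≤ K) :
    ∃ k ∈ K, (P : Subgroup G).map (MulAut.conj k).toMonoidHom = (R : Subgroup G) := by
  obtain ⟨k, hk⟩ := MulAction.exists_smul_eq K (P.subtype hP) (R.subtype hR)
  rw [Sylow.smul_subtype] at hk
  refine ⟨k, k.2, ?_⟩
  rw [← Sylow.subtype_injective hk, Subgroup.smul_def, coe_smul_eq_map]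

theorem exists_conj_le_sylow {K A B : Subgroup G} (hA : IsPGroup p A) (hAK : A ≤ K)
    (hB : IsPGroup p B) (hBK : B ≤ K) :
    ∃ k ∈ K, ∃ R : Sylow p G,
      A ≤ (R : Subgroup G) ∧ B.map (MulAut.conj k).toMonoidHom ≤ (R : Subgroup G) := by
  obtain ⟨SA, hSA⟩ := (hA.comap_subtype (K := K)).exists_le_sylow
  obtain ⟨SB, hSB⟩ := (hB.comap_subtype (K := K)).exists_le_sylow
  obtain ⟨k, hk⟩ := MulAction.exists_smul_eq K SB SA
  obtain ⟨R, hR⟩ := (SA.2.map K.subtype).exists_le_sylow
  refine ⟨k, k.2, R, ?_, ?_⟩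
  · intro a ha
    exact hR ⟨⟨a, hAK ha⟩, hSA ha, rfl⟩
  · rintro _ ⟨b, hb, rfl⟩
    refine hR ⟨k * ⟨b, hBK hb⟩ * k⁻¹, ?_, by simp⟩
    rw [SetLike.mem_coe, ← hk, coe_smul_eq_map]
    exact conj_mem_map_conj (hSB hb) k

/-- If two `p`-subgroups of `K` and one Sylow `p`-subgroup `T` of `K` (given in `G`). -/
theorem exists_conj_le_of_isPGroup {K B : Subgroup G} (P : Sylow p G) (hP : (P : Subgroup G) ≤ K)
    (hB : IsPGroup p B) (hBK : B ≤ K) :
    ∃ k ∈ K, B.map (MulAut.conj k).toMonoidHom ≤ (P : Subgroup G) := by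
  obtain ⟨k, hk, R, hPR, hR⟩ := exists_conj_le_sylow P.2 hP hB hBK
  rw [← P.3 R.2 hPR]
  exact ⟨k, hk, hR⟩

/-! ### Burnside fusion -/

/-- Burnside: normal subsets of a Sylow subgroup conjugate in `G` are conjugate in its normalizer. -/
theorem burnside_fusion_set (P : Sylow p G) {X Y : Set G}
    (hX : ∀ x ∈ P, (fun y => x * y * x⁻¹) '' X = X) (hY : ∀ x ∈ P, (fun y => x * y * x⁻¹) '' Y = Y)
    {g : G} (hg : (fun y => g * y * g⁻¹) '' X = Y) :
    ∃ n ∈ normalizer (P : Set G), (fun y => n * y * n⁻¹) '' X = Y := by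
  have h1 : (P : Subgroup G) ≤ normalizer Y := fun x hx => by
    rw [mem_normalizer_iff_conj_image_eq]
    exact hY x hx
  have h2 : ((g • P : Sylow p G) : Subgroup G) ≤ normalizer Y := by
    intro z hz
    rw [mem_normalizer_iff_conj_image_eq]
    have hx := hX _ (mem_smul_sylow_iff.mp hz)
    calc MulAut.conj z '' Y = (fun y => z * y * z⁻¹) '' ((fun y => g * y * g⁻¹) '' X) := by
          rw [hg]; rfl
      _ = (fun y => g * y * g⁻¹) '' ((fun y => g⁻¹ * z * g * y * (g⁻¹ * z * g)⁻¹) '' X) := by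
          simp only [Set.image_image]
          congr 1
          funext y
          group
      _ = Y := by rw [hx, hg]
  obtain ⟨k, hk, hkP⟩ := exists_conj_eq_of_le h2 h1
  refine ⟨k * g, ?_, ?_⟩
  · refine map_conj_eq_self_iff.mp ?_
    rw [map_conj_mul, ← coe_smul_eq_map]
    exact hkP
  · rw [mem_normalizer_iff_conj_image_eq] at hk
    calc (fun y => k * g * y * (k * g)⁻¹) '' X
        = (fun y => k * y * k⁻¹) '' ((fun y => g * y * g⁻¹) '' X) := by
          simp only [Set.image_image]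
          congr 1
          funext y
          group
      _ = Y := by rw [hg]; exact hk

/-! ### Weakly closed subgroups -/

theorem IsWeaklyClosed.conj_eq_of_le_sylow {P : Sylow p G} {Z : Subgroup G}
    (hW : IsWeaklyClosed Z P) {R : Sylow p G} {a b : G}
    (ha : Z.map (MulAut.conj a).toMonoidHom ≤ (R : Subgroup G))
    (hb : Z.map (MulAut.conj b).toMonoidHom ≤ (R : Subgroup G)) :
    Z.map (MulAut.conj a).toMonoidHom = Z.map (MulAut.conj b).toMonoidHom := by
  obtain ⟨h, rfl⟩ := MulAction.exists_smul_eq G P R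
  have key : ∀ c : G, Z.map (MulAut.conj c).toMonoidHom ≤ ((h • P : Sylow p G) : Subgroup G) →
      Z.map (MulAut.conj c).toMonoidHom = Z.map (MulAut.conj h).toMonoidHom := by
    intro c hc
    have hle : Z.map (MulAut.conj (h⁻¹ * c)).toMonoidHom ≤ (P : Subgroup G) := by
      rw [map_conj_mul, map_conj_le_iff, inv_inv, ← coe_smul_eq_map]
      exact hc
    conv_lhs => rw [← mul_inv_cancel_left h c]
    rw [map_conj_mul, hW.2 _ hle]
  rw [key a ha, key b hb]

/-- Fusion of elements centralizing a weakly closed subgroup is controlled by its normalizer. -/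
theorem IsWeaklyClosed.exists_normalizer_conj {P : Sylow p G} {Z : Subgroup G}
    (hW : IsWeaklyClosed Z P) {x g : G} (hx : x ∈ centralizer (Z : Set G))
    (hy : g * x * g⁻¹ ∈ centralizer (Z : Set G)) :
    ∃ n ∈ normalizer (Z : Set G), n * x * n⁻¹ = g * x * g⁻¹ := by
  have hZ : IsPGroup p Z := P.2.to_le hW.1
  have hZg : IsPGroup p ↥(Z.map (MulAut.conj g).toMonoidHom) := hZ.map _
  have h1 : Z ≤ centralizer {g * x * g⁻¹} := fun z hz => by
    rw [mem_centralizer_iff]
    rintro _ rfl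
    exact (hy z hz).symm
  have h2 : Z.map (MulAut.conj g).toMonoidHom ≤ centralizer {g * x * g⁻¹} := by
    intro w hw
    have h := hx _ (mem_map_conj.mp hw)
    rw [mem_centralizer_iff]
    rintro _ rfl
    calc g * x * g⁻¹ * w = g * (x * (g⁻¹ * w * g)) * g⁻¹ := by group
      _ = g * (g⁻¹ * w * g * x) * g⁻¹ := by rw [h]
      _ = w * (g * x * g⁻¹) := by group
  obtain ⟨k, hk, R, hR1, hR2⟩ := exists_conj_le_sylow hZ h1 hZg h2
  rw [← map_conj_mul] at hR2
  have := IsWeaklyClosed.conj_eq_of_le_sylow hW (a := k * g) (b := 1) hR2 (by rwa [map_conj_one])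
  rw [map_conj_one] at this
  refine ⟨k * g, map_conj_eq_self_iff.mp this, ?_⟩
  have hk' := mem_centralizer_iff.mp hk _ rfl
  calc k * g * x * (k * g)⁻¹ = k * (g * x * g⁻¹) * k⁻¹ := by group
    _ = g * x * g⁻¹ * k * k⁻¹ := by rw [hk']
    _ = g * x * g⁻¹ := by rw [mul_inv_cancel_right]

theorem isWeaklyClosed_center (P : Sylow p G) [IsMulCommutative P] :
    IsWeaklyClosed (P : Subgroup G) P :=
  ⟨le_rfl, fun g hg => by
    rw [← coe_smul_eq_map] at hg ⊢
    rw [(g • P).3 P.2 hg]⟩

/-! ### The focal subgroup -/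

theorem focal_le_of_fusion (P : Sylow p G) {F : Subgroup G}
    (h : ∀ x ∈ P, ∀ g : G, g * x * g⁻¹ ∈ P →
      ∃ n : G, n * x * n⁻¹ = g * x * g⁻¹ ∧ ⁅x, n⁆ ∈ F) :
    commutator G ⊓ (P : Subgroup G) ≤ F := by
  rw [commutator_inf_eq_focalSubgroup P, focalSubgroup_def, closure_le]
  rintro _ ⟨hmem, x, hx, u, rfl⟩
  have hux' : u * x * u⁻¹ ∈ (P : Subgroup G) := by
    have := P.inv_mem (P.mul_mem (P.inv_mem hx) hmem)
    simpa [commutatorElement_def, mul_assoc] using this
  obtain ⟨n, hn1, hn2⟩ := h x hx u hux'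
  have : ⁅x, n⁆ = ⁅x, u⁆ := by
    have h' : (n * x * n⁻¹)⁻¹ = (u * x * u⁻¹)⁻¹ := by rw [hn1]
    simp only [mul_inv_rev, inv_inv] at h'
    simp only [commutatorElement_def, mul_assoc] at h' ⊢
    rw [h']
  rw [← this]
  exact hn2

/-- `O^p(G) ∩ P` lies in the focal subgroup `G' ∩ P`. -/
theorem pResidual_inf_le (P : Sylow p G) :
    pResidual p G ⊓ (P : Subgroup G) ≤ commutator G ⊓ (P : Subgroup G) := by
  rw [commutator_inf_eq_focalSubgroup P, ← ker_transferFocal_inf_eq_focalSubgroup P]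
  refine inf_le_inf_right _ (pResidual_le ?_)
  exact (P.2.to_quotient P.focalSubgroupOf).of_equiv
    (transferFocal.quotientKerMulEquivQuotientFocalSubroupOf P).symm

theorem exists_normal_inf_eq_focal (P : Sylow p G) :
    ∃ N : Subgroup G, N.Normal ∧ N ⊓ (P : Subgroup G) = commutator G ⊓ (P : Subgroup G) ∧
      N ⊔ (P : Subgroup G) = ⊤ := by
  refine ⟨_, MonoidHom.normal_ker P.transferFocal, ?_, ?_⟩
  · rw [ker_transferFocal_inf_eq_focalSubgroup, commutator_inf_eq_focalSubgroup]
  · rw [← top_le_iff]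
    calc (⊤ : Subgroup G) = pResidual p G ⊔ (P : Subgroup G) := (pResidual_sup_sylow P).symm
      _ ≤ _ := sup_le_sup_right (pResidual_le ((P.2.to_quotient P.focalSubgroupOf).of_equiv
          (transferFocal.quotientKerMulEquivQuotientFocalSubroupOf P).symm)) _

end Cfsg.Agent.Transfer.Fusion
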