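import Cfsg.Agent.Lib.Transfer.Fusion
import Mathlib.GroupTheory.Nilpotent

/-!
The Frobenius normal `p`-complement criterion.
-/

set_option autoImplicit false
set_option linter.unusedSectionVars false

namespace Cfsg.Agent.Transfer.Frobenius

open scoped commutatorElement
open Cfsg Subgroup Cfsg.Agent.PLocal.Cores Cfsg.Agent.Transfer.NormalPComplement
  Cfsg.Agent.Transfer.Fusion

variable {G : Type*} [Group G] [Finite G] {p : ℕ} [Fact p.Prime]

/-- Normalizers grow in a `p`-group. -/
theorem lt_inf_normalizer {P D : Subgroup G} (hP : IsPGroup p P) (hDP : D < P) :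
    D < P ⊓ normalizer (D : Set G) := by
  refine lt_of_le_of_ne (le_inf hDP.le le_normalizer) fun heq => ?_
  have hnil : Group.IsNilpotent ↥P := hP.isNilpotent
  have hlt : D.subgroupOf P < ⊤ := by
    rw [lt_top_iff_ne_top, Ne, subgroupOf_eq_top]
    exact hDP.not_ge
  refine (Group.normalizerCondition_of_isNilpotent _ hlt).not_ge ?_
  intro x hx
  rw [← subgroupOf_normalizer_eq hDP.le] at hx
  rw [mem_subgroupOf] at hx ⊢
  rw [heq]
  exact ⟨x.2, hx⟩

/-- The hypothesis of Frobenius' criterion: elements of order prime to `p` normalizing a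
`p`-subgroup centralize it. -/
def Condition (p : ℕ) (G : Type*) [Group G] : Prop :=
  ∀ Q : Subgroup G, IsPGroup p Q → ∀ g ∈ normalizer (Q : Set G), (orderOf g).Coprime p →
    g ∈ centralizer (Q : Set G)

theorem Condition.subgroup (h : Condition p G) (K : Subgroup G) : Condition p K := by
  intro Q hQ g hg ho
  have h1 : (g : G) ∈ normalizer (Q.map K.subtype : Set G) := le_normalizer_map K.subtype ⟨g, hg, rfl⟩
  have h2 := h _ (hQ.map K.subtype) _ h1 (by rwa [Subgroup.orderOf_coe])
  intro q hq
  exact Subtype.ext (h2 q ⟨q, hq, rfl⟩)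

theorem Condition.of_sylow (P : Sylow p G)
    (h : ∀ Q : Subgroup G, Q ≤ (P : Subgroup G) → ∀ g ∈ normalizer (Q : Set G),
      (orderOf g).Coprime p → g ∈ centralizer (Q : Set G)) : Condition p G := by
  intro Q hQ g hg ho
  obtain ⟨R, hR⟩ := hQ.exists_le_sylow
  obtain ⟨c, hc⟩ := MulAction.exists_smul_eq G R P
  have hle : Q.map (MulAut.conj c).toMonoidHom ≤ (P : Subgroup G) := by
    rw [← hc, coe_smul_eq_map]
    exact map_mono hR
  have hn : c * g * c⁻¹ ∈ normalizer (Q.map (MulAut.conj c).toMonoidHom : Set G) :=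
    le_normalizer_map (MulAut.conj c).toMonoidHom ⟨g, hg, by simp⟩
  have ho' : (orderOf (c * g * c⁻¹)).Coprime p := by
    rw [← MulAut.conj_apply c g, MulEquiv.orderOf_eq]
    exact ho
  have h2 := h _ hle _ hn ho'
  intro q hq
  have h3 := h2 (c * q * c⁻¹) (conj_mem_map_conj hq c)
  calc q * g = c⁻¹ * (c * q * c⁻¹ * (c * g * c⁻¹)) * c := by group
    _ = c⁻¹ * (c * g * c⁻¹ * (c * q * c⁻¹)) * c := by rw [h3]
    _ = g * q := by group

theorem Condition.pResidual_le (h : Condition p G) {D : Subgroup G} (hD : IsPGroup p D) :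
    (pResidual p (normalizer (D : Set G))).map (normalizer (D : Set G)).subtype ≤
      centralizer (D : Set G) := by
  rw [pResidual, MonoidHom.map_closure, closure_le]
  rintro _ ⟨x, hx, rfl⟩
  exact h D hD x x.2 (by rw [Subgroup.orderOf_coe]; exact hx)

theorem Condition.exists_centralizer_conj (h : Condition p G) (A : Set G) (P R : Sylow p G)
    (hP : A ⊆ P) (hR : A ⊆ R) :
    ∃ c ∈ centralizer A, (P : Subgroup G).map (MulAut.conj c).toMonoidHom = (R : Subgroup G) := by
  generalize hn : Nat.card G - Nat.card ↥((P : Subgroup G) ⊓ (R : Subgroup G)) = n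
  induction n using Nat.strong_induction_on generalizing P R with
  | _ n ih =>
    set D := (P : Subgroup G) ⊓ (R : Subgroup G) with hDdef
    by_cases hDP : D = (P : Subgroup G)
    · have : (P : Subgroup G) ≤ (R : Subgroup G) := hDP ▸ inf_le_right
      exact ⟨1, one_mem _, by rw [map_conj_one, P.3 R.2 this]⟩
    have hDR : D ≠ (R : Subgroup G) := by
      intro hh
      have hle : (R : Subgroup G) ≤ (P : Subgroup G) := hh ▸ inf_le_left
      refine hDP ?_
      have := R.3 P.2 hle
      rw [hDdef, this, inf_idem]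
    have hDlt : D < (P : Subgroup G) := lt_of_le_of_ne inf_le_left hDP
    have hDlt' : D < (R : Subgroup G) := lt_of_le_of_ne inf_le_right hDR
    have hD : IsPGroup p D := P.2.to_le hDlt.le
    have hAD : A ⊆ D := fun a ha => ⟨hP ha, hR ha⟩
    have hP' := lt_inf_normalizer P.2 hDlt
    have hR' := lt_inf_normalizer R.2 hDlt'
    set N := normalizer (D : Set G)
    obtain ⟨SA, hSA⟩ := (P.2.comap_subtype (K := N)).exists_le_sylow
    obtain ⟨SB, hSB⟩ := (R.2.comap_subtype (K := N)).exists_le_sylow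
    obtain ⟨k, hk⟩ := MulAction.exists_smul_eq N SB SA
    have hkmem : k ∈ (SA : Subgroup N) ⊔ pResidual p N := by
      rw [sup_comm, pResidual_sup_sylow]; exact mem_top _
    obtain ⟨s, hs, c, hc, rfl⟩ := mem_sup_of_normal_right.mp hkmem
    have hcSB : c • SB = SA := by
      have hsA : s • SA = SA := Sylow.smul_eq_iff_mem_normalizer.mpr (le_normalizer hs)
      rw [mul_smul] at hk
      calc c • SB = s⁻¹ • SA := by rw [← hk, inv_smul_smul]
        _ = SA := by
            conv_lhs => rw [← hsA]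
            rw [inv_smul_smul]
    have hcC : (c : G) ∈ centralizer (D : Set G) := h.pResidual_le hD ⟨c, hc, rfl⟩
    obtain ⟨P1, hP1⟩ := (SA.2.map N.subtype).exists_le_sylow
    have h1 : (P : Subgroup G) ⊓ N ≤ (P1 : Subgroup G) := fun x hx =>
      hP1 ⟨⟨x, hx.2⟩, hSA hx.1, rfl⟩
    have h2 : ((R : Subgroup G) ⊓ N).map (MulAut.conj (c : G)).toMonoidHom ≤ (P1 : Subgroup G) := by
      rintro _ ⟨x, hx, rfl⟩
      refine hP1 ⟨c * ⟨x, hx.2⟩ * c⁻¹, ?_, by simp⟩
      rw [SetLike.mem_coe, ← hcSB, coe_smul_eq_map]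
      exact conj_mem_map_conj (hSB hx.1) c
    set R' : Sylow p G := (c : G) • R with hR'def
    have hcA : ∀ a ∈ A, (c : G) * a * (c : G)⁻¹ = a := fun a ha => by
      rw [← hcC a (hAD ha), mul_inv_cancel_right]
    have hAP1 : A ⊆ P1 := fun a ha => h1 ⟨hP ha, le_normalizer (hAD ha)⟩
    have hAR' : A ⊆ R' := fun a ha => by
      have : (c : G) * a * (c : G)⁻¹ ∈ (R' : Subgroup G) := by
        rw [hR'def, coe_smul_eq_map]; exact conj_mem_map_conj (hR ha) _
      rwa [hcA a ha] at this
    have hcard : ∀ H : Subgroup G, Nat.card H ≤ Nat.card G := fun H => Subgroup.card_le_card_group H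
    have hlt1 : Nat.card ↥D < Nat.card ↥((P : Subgroup G) ⊓ (P1 : Subgroup G)) := by
      refine lt_of_lt_of_le ?_ (Subgroup.card_le_of_le
        (le_inf inf_le_left h1 : (P : Subgroup G) ⊓ N ≤ (P : Subgroup G) ⊓ (P1 : Subgroup G)))
      by_contra hle
      exact hP'.ne (Subgroup.eq_of_le_of_card_ge hP'.le (not_lt.mp hle))
    have hlt2 : Nat.card ↥D < Nat.card ↥((P1 : Subgroup G) ⊓ (R' : Subgroup G)) := by
      have hle : ((R : Subgroup G) ⊓ N).map (MulAut.conj (c : G)).toMonoidHom ≤
          (P1 : Subgroup G) ⊓ (R' : Subgroup G) := by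
        refine le_inf h2 ?_
        rw [hR'def, coe_smul_eq_map]
        exact map_mono inf_le_left
      refine lt_of_lt_of_le ?_ (Subgroup.card_le_of_le hle)
      rw [card_map_conj]
      by_contra hle'
      exact hR'.ne (Subgroup.eq_of_le_of_card_ge hR'.le (not_lt.mp hle'))
    have hb1 := hcard ((P : Subgroup G) ⊓ (P1 : Subgroup G))
    have hb2 := hcard ((P1 : Subgroup G) ⊓ (R' : Subgroup G))
    obtain ⟨c1, hc1, e1⟩ := ih _ (by omega) P P1 hP hAP1 rfl
    obtain ⟨c2, hc2, e2⟩ := ih _ (by omega) P1 R' hAP1 hAR' rfl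
    refine ⟨(c : G)⁻¹ * (c2 * c1), ?_, ?_⟩
    · exact mul_mem (inv_mem (centralizer_le hAD hcC)) (mul_mem hc2 hc1)
    · rw [map_conj_mul, map_conj_mul, e1, e2, hR'def, coe_smul_eq_map, map_conj_inv_cancel]

theorem Condition.exists_mem_conj_eq (h : Condition p G) (P : Sylow p G) {x g : G} (hx : x ∈ P)
    (hy : g * x * g⁻¹ ∈ P) : ∃ z ∈ P, z * x * z⁻¹ = g * x * g⁻¹ := by
  have hA2 : ({g * x * g⁻¹} : Set G) ⊆ (g • P : Sylow p G) := by
    rw [Set.singleton_subset_iff]
    refine mem_smul_sylow_iff.mpr ?_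
    simpa [mul_assoc] using hx
  obtain ⟨c, hc, he⟩ := h.exists_centralizer_conj {g * x * g⁻¹} (g • P) P hA2
    (Set.singleton_subset_iff.mpr hy)
  rw [coe_smul_eq_map, ← map_conj_mul] at he
  have hn : c * g ∈ normalizer (P : Set G) := map_conj_eq_self_iff.mp he
  have hmem : (⟨c * g, hn⟩ : normalizer (P : Set G)) ∈
      ↑(P.subtype le_normalizer) ⊔ pResidual p (normalizer (P : Set G)) := by
    rw [sup_comm, pResidual_sup_sylow]; exact mem_top _
  obtain ⟨s, hs, q, hq, hsq⟩ := mem_sup_of_normal_right.mp hmem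
  have hq' : (q : G) ∈ centralizer (P : Set G) := h.pResidual_le P.2 ⟨q, hq, rfl⟩
  refine ⟨s, hs, ?_⟩
  have hsq' : (s : G) * q = c * g := congrArg Subtype.val hsq
  have hqx : (q : G) * x * (q : G)⁻¹ = x := by rw [← hq' x hx, mul_inv_cancel_right]
  have hcy : c * (g * x * g⁻¹) * c⁻¹ = g * x * g⁻¹ := by
    rw [← mem_centralizer_iff.mp hc _ rfl, mul_inv_cancel_right]
  calc (s : G) * x * (s : G)⁻¹ = (s : G) * ((q : G) * x * (q : G)⁻¹) * (s : G)⁻¹ := by rw [hqx]
    _ = ((s : G) * q) * x * ((s : G) * q)⁻¹ := by group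
    _ = c * (g * x * g⁻¹) * c⁻¹ := by rw [hsq']; group
    _ = g * x * g⁻¹ := hcy

end Cfsg.Agent.Transfer.Frobenius

namespace Cfsg.Agent.Transfer.Frobenius

open Cfsg Subgroup Cfsg.Agent.PLocal.Cores Cfsg.Agent.Transfer.NormalPComplement
  Cfsg.Agent.Transfer.Fusion

universe u

variable {p : ℕ} [Fact p.Prime]

/-- A Sylow subgroup which is not trivial is not contained in its derived subgroup. -/
theorem not_le_commutator_self {G : Type*} [Group G] [Finite G] {P : Subgroup G}
    (hP : IsPGroup p P) (hne : P ≠ ⊥) : ¬ P ≤ ⁅P, P⁆ := by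
  intro hle
  have hPP : ⁅P, P⁆ = P :=
    le_antisymm ((map_subtype_commutator P).symm.le.trans (map_subtype_le _)) hle
  have hc : commutator ↥P = ⊤ := by
    apply map_injective P.subtype_injective
    rw [map_subtype_commutator, hPP, ← MonoidHom.range_eq_map, range_subtype]
  have : Group.IsNilpotent ↥P := hP.isNilpotent
  have hnil : Group.IsSolvable ↥P := inferInstance
  have : Nontrivial ↥P := (nontrivial_iff_ne_bot _).mpr hne
  obtain ⟨n, hn⟩ := hnil
  have : ∀ k, derivedSeries ↥P k = ⊤ := by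
    intro k
    induction k with
    | zero => rfl
    | succ k ih => rw [derivedSeries_succ, ih, ← commutator_def, hc]
  rw [this n] at hn
  exact top_ne_bot hn

/-- Frobenius' normal `p`-complement criterion. -/
theorem hasNormalPComplement_of_condition : ∀ {G : Type u} [Group G] [Finite G],
    Condition p G → HasNormalPComplement p G := by
  suffices ∀ n : ℕ, ∀ (G : Type u) [Group G] [Finite G], Nat.card G = n → Condition p G →
      HasNormalPComplement p G from fun {G} _ _ h => this _ G rfl h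
  intro n
  induction n using Nat.strong_induction_on with
  | _ n ih =>
    intro G _ _ hn h
    by_cases hp : p ∣ Nat.card G
    swap
    · exact hasNormalPComplement_of_coprime
        ((Fact.out : p.Prime).coprime_iff_not_dvd.mpr hp).symm
    obtain ⟨P⟩ := (inferInstance : Nonempty (Sylow p G))
    have hfoc : commutator G ⊓ (P : Subgroup G) ≤ ⁅(P : Subgroup G), (P : Subgroup G)⁆ := by
      refine focal_le_of_fusion P fun x hx g hg => ?_
      obtain ⟨z, hz, he⟩ := h.exists_mem_conj_eq P hx hg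
      exact ⟨z, he, commutator_mem_commutator hx hz⟩
    obtain ⟨N, hN, h1, h2⟩ := exists_normal_inf_eq_focal P
    have hNne : N ≠ ⊤ := by
      rintro rfl
      rw [top_inf_eq] at h1
      exact not_le_commutator_self P.2 (P.ne_bot_of_dvd_card hp) (h1.le.trans hfoc)
    obtain ⟨k, hk⟩ : ∃ k, N.index = p ^ k := by
      have : N.index ∣ Nat.card (P : Subgroup G) := by
        have hmap : (P : Subgroup G).map (QuotientGroup.mk' N) = ⊤ := by
          have := congrArg (Subgroup.map (QuotientGroup.mk' N)) h2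
          rwa [Subgroup.map_sup, QuotientGroup.map_mk'_self, bot_sup_eq,
            Subgroup.map_top_of_surjective _ (QuotientGroup.mk'_surjective N)] at this
        have hd := card_map_dvd (P : Subgroup G) (QuotientGroup.mk' N)
        rwa [hmap, card_top] at hd
      obtain ⟨m, hm⟩ := P.2.exists_card_eq
      obtain ⟨k, -, hk⟩ := (Nat.dvd_prime_pow (Fact.out : p.Prime)).mp (hm ▸ this)
      exact ⟨k, hk⟩
    have hlt : Nat.card N < n := by
      rw [← hn]
      refine lt_of_le_of_ne (Subgroup.card_le_card_group N) fun hh => hNne ?_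
      exact Subgroup.eq_top_of_card_eq N hh
    exact hasNormalPComplement_of_normal_index (ih _ hlt N rfl (h.subgroup N)) hk

theorem condition_of_hasNormalPComplement {G : Type u} [Group G] [Finite G]
    (h : HasNormalPComplement p G) : Condition p G := by
  intro Q hQ g hg ho q hq
  have hgN : g ∈ pResidual p G := mem_pResidual_of_coprime ho
  have hcop := hasNormalPComplement_iff_pResidual.mp h
  have h1 : q * g * q⁻¹ * g⁻¹ ∈ Q ⊓ pResidual p G := by
    constructor
    · rw [mul_assoc q g, mul_assoc q]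
      exact Q.mul_mem hq ((hg q⁻¹).mp (Q.inv_mem hq))
    · exact (pResidual p G).mul_mem ((pResidual_normal (p := p)).conj_mem g hgN q) ((pResidual p G).inv_mem hgN)
  rw [inf_eq_bot_of_isPGroup_of_coprime hQ hcop, mem_bot, mul_inv_eq_one,
    mul_inv_eq_iff_eq_mul] at h1
  exact h1

theorem hasNormalPComplement_iff_condition {G : Type u} [Group G] [Finite G] :
    HasNormalPComplement p G ↔ Condition p G :=
  ⟨condition_of_hasNormalPComplement, hasNormalPComplement_of_condition⟩

theorem hasNormalPComplement_iff_normalizers {G : Type u} [Group G] [Finite G] :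
    HasNormalPComplement p G ↔
      ∀ Q : Subgroup G, IsPGroup p Q → Q ≠ ⊥ →
        HasNormalPComplement p (normalizer (Q : Set G)) := by
  refine ⟨fun h Q _ _ => HasNormalPComplement.subgroup h _,
    fun h => hasNormalPComplement_of_condition ?_⟩
  intro Q hQ g hg ho q hq
  by_cases hQ1 : Q = ⊥
  · subst hQ1
    rw [SetLike.mem_coe, mem_bot] at hq
    rw [hq, one_mul, mul_one]
  have hc := condition_of_hasNormalPComplement (h Q hQ hQ1) (Q.subgroupOf _) hQ.comap_subtype
    ⟨g, hg⟩ ?_ (by rwa [← Subgroup.orderOf_coe]) ⟨q, le_normalizer hq⟩ hq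
  · exact congrArg Subtype.val hc
  · rw [← subgroupOf_normalizer_eq le_normalizer]
    exact hg

end Cfsg.Agent.Transfer.Frobenius
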