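import Cfsg.Agent.Lib.Transfer.NormalPComplement
import Mathlib.GroupTheory.Nilpotent

/-!
Automorphisms of prime order of small `p`-groups, and normal complements to small Sylow subgroups.
-/

set_option autoImplicit false
set_option linter.unusedSectionVars false

namespace Cfsg.Agent.Transfer.SmallSylow

open Cfsg Subgroup Cfsg.Agent.Transfer.NormalPComplement

variable {G : Type*} [Group G] [Finite G] {p : ℕ} [Fact p.Prime]

/-- An automorphism of prime order `r` of a group of order `p ^ a` is trivial when `r` divides no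
`p ^ a - p ^ d` with `d < a`. -/
theorem mulAut_eq_one {T : Type*} [Group T] [Finite T] {a r : ℕ} [Fact r.Prime]
    (hT : Nat.card T = p ^ a) (hr : ∀ d < a, ¬ r ∣ p ^ a - p ^ d) (φ : MulAut T)
    (hφ : φ ^ r = 1) : φ = 1 := by
  have hpg : IsPGroup r ↥(zpowers φ) := by
    refine IsPGroup.of_card_dvd_pow (n := 1) ?_
    rw [Nat.card_zpowers, pow_one]
    exact orderOf_dvd_of_pow_eq_one hφ
  let F : Subgroup T := φ.toMonoidHom.eqLocus (MonoidHom.id T)
  have he : MulAction.fixedPoints ↥(zpowers φ) T = (F : Set T) := by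
    ext t
    rw [MulAction.mem_fixedPoints]
    constructor
    · intro h
      exact h ⟨φ, mem_zpowers φ⟩
    · rintro ht ⟨ψ, hψ⟩
      have : zpowers φ ≤ MulAction.stabilizer (MulAut T) t := by
        rw [zpowers_le, MulAction.mem_stabilizer_iff]
        exact ht
      exact this hψ
  have hmod := hpg.card_modEq_card_fixedPoints T
  obtain ⟨d, hd, hFd⟩ := (Nat.dvd_prime_pow (Fact.out : p.Prime)).mp
    (hT ▸ F.card_subgroup_dvd_card)
  rw [hT, Nat.card_congr (Equiv.setCongr he), show Nat.card (F : Set T) = Nat.card F from rfl,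
    hFd] at hmod
  rcases lt_or_eq_of_le hd with hlt | rfl
  · exact absurd ((Nat.modEq_iff_dvd' (Nat.pow_le_pow_right (Fact.out : p.Prime).pos hd)).mp
      hmod.symm) (hr d hlt)
  · ext t
    have htop : F = ⊤ := F.eq_top_of_card_eq (hFd.trans hT.symm)
    have : t ∈ F := htop ▸ mem_top t
    exact this

/-- An element normalizing a `p`-subgroup `T` of order `p ^ a` centralizes it when no prime divisor
of its order divides any `p ^ a - p ^ d` with `d < a`. -/
theorem mem_centralizer_of_primes {T : Subgroup G} {a : ℕ} (hT : Nat.card T = p ^ a) {g : G}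
    (hg : g ∈ normalizer (T : Set G))
    (hr : ∀ r : ℕ, r.Prime → r ∣ orderOf g → ∀ d < a, ¬ r ∣ p ^ a - p ^ d) :
    g ∈ centralizer (T : Set G) := by
  have key : ∀ m : ℕ, m ∣ orderOf g → ∀ h ∈ normalizer (T : Set G), h ^ m = 1 →
      h ∈ centralizer (T : Set G) := by
    intro m
    induction m using Nat.strong_induction_on with
    | _ m ih =>
      intro hm h hh hpow
      have hm0 : m ≠ 0 := ne_zero_of_dvd_ne_zero (orderOf_pos g).ne' hm
      by_cases hm1 : m = 1
      · rw [hm1, pow_one] at hpow
        rw [hpow]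
        exact one_mem _
      obtain ⟨r, hrp, hrm⟩ := Nat.exists_prime_and_dvd hm1
      have := Fact.mk hrp
      have h1 := ih (m / r) (Nat.div_lt_self (Nat.pos_of_ne_zero hm0) hrp.one_lt)
        ((Nat.div_dvd_of_dvd hrm).trans hm) (h ^ r) (pow_mem hh r)
        (by rw [← pow_mul, Nat.mul_div_cancel' hrm, hpow])
      let φ : MulAut T := T.normalizerMonoidHom ⟨h, hh⟩
      have hφ : φ ^ r = 1 := by
        rw [← map_pow]
        refine MonoidHom.mem_ker.mp ?_
        rw [normalizerMonoidHom_ker, mem_subgroupOf]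
        exact h1
      have h2 : (⟨h, hh⟩ : normalizer (T : Set G)) ∈ T.normalizerMonoidHom.ker :=
        MonoidHom.mem_ker.mpr (mulAut_eq_one hT (hr r hrp (hrm.trans hm)) φ hφ)
      rw [normalizerMonoidHom_ker, mem_subgroupOf] at h2
      exact h2
  exact key _ dvd_rfl g hg (pow_orderOf_eq_one g)

/-- For an abelian Sylow subgroup it is enough to test elements of order prime to `p`. -/
theorem normalizer_le_centralizer_of_forall (P : Sylow p G) [IsMulCommutative ↥(P : Subgroup G)]
    (h : ∀ g ∈ normalizer (P : Set G), (orderOf g).Coprime p → g ∈ centralizer (P : Set G)) :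
    normalizer (P : Set G) ≤ centralizer (P : Set G) := by
  intro n hn
  have hn' : (⟨n, hn⟩ : normalizer (P : Set G)) ∈
      pResidual p (normalizer (P : Set G)) ⊔ ↑(P.subtype le_normalizer) := by
    rw [pResidual_sup_sylow]; exact mem_top _
  have hle : pResidual p (normalizer (P : Set G)) ⊔ ↑(P.subtype le_normalizer) ≤
      (centralizer (P : Set G)).subgroupOf (normalizer (P : Set G)) := by
    refine sup_le ?_ fun x hx => (P : Subgroup G).le_centralizer hx
    rw [pResidual, closure_le]
    intro x hx
    exact h x x.2 (by rw [Subgroup.orderOf_coe]; exact hx)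
  exact hle hn'

theorem isMulCommutative_of_card_le_sq {T : Type*} [Group T] {a : ℕ} (ha : a ≤ 2)
    (hT : Nat.card T = p ^ a) : IsMulCommutative T := by
  obtain rfl | rfl | rfl : a = 0 ∨ a = 1 ∨ a = 2 := by omega
  · have := (Nat.card_eq_one_iff_unique.mp (hT.trans (pow_zero p))).1
    exact ⟨⟨fun _ _ => Subsingleton.elim _ _⟩⟩
  · have : IsCyclic T := isCyclic_of_prime_card (hT.trans (pow_one p))
    exact ⟨⟨fun x y => IsCyclic.commGroup.mul_comm x y⟩⟩
  · exact IsPGroup.isMulCommutative_of_card_eq_prime_sq hT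

/-- A finite non-abelian simple group has no normal `p`-complement for `p` dividing its order. -/
theorem not_hasNormalPComplement_of_isSimpleGroup [IsSimpleGroup G]
    (hG : ∃ x y : G, x * y ≠ y * x) (hp : p ∣ Nat.card G) : ¬ HasNormalPComplement p G := by
  intro h
  obtain ⟨N, hN, h1, k, h2⟩ := hasNormalPComplement_iff_exists.mp h
  rcases hN.eq_bot_or_eq_top with rfl | rfl
  · have hpg : IsPGroup p G := IsPGroup.of_card (n := k) (by rw [← index_bot, h2])
    have : Nontrivial G := by
      obtain ⟨x, y, hxy⟩ := hG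
      exact ⟨x, y, fun he => hxy (by rw [he])⟩
    rcases (inferInstance : (center G).Normal).eq_bot_or_eq_top with hc | hc
    · exact (hpg.bot_lt_center).ne hc.symm
    · obtain ⟨x, y, hxy⟩ := hG
      exact hxy (mem_center_iff.mp (hc ▸ mem_top y) x)
  · rw [card_top] at h1
    exact (Fact.out : p.Prime).coprime_iff_not_dvd.mp h1.symm hp

end Cfsg.Agent.Transfer.SmallSylow
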