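import Cfsg.Agent.Lib.Transfer.Fusion
import Cfsg.Agent.Lib.Coprime.PGroup
import Cfsg.Agent.Lib.PGroups.Basic
import Cfsg.Agent.Lib.Cores.Basic
import Mathlib.GroupTheory.Frattini

/-!
Tate's theorem in the form: a normal subgroup meeting a Sylow `p`-subgroup inside its Frattini
subgroup has a normal `p`-complement. Proof by transfer out of a fibre product.
-/

set_option autoImplicit false

namespace Cfsg.Agent.Transfer.Tate

open Subgroup Cfsg
open scoped IsMulCommutative
open Cfsg.Agent.Transfer.NormalPComplement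

variable {p : ℕ} [hp : Fact p.Prime] {G : Type*} [Group G] [Finite G]

theorem eq_of_le_sup_frattini (P : Sylow p G) (M : Subgroup G) [M.Normal]
    (hM : M ≤ closure {g : G | g ∈ M ∧ (orderOf g).Coprime p})
    (htop : M ⊔ (P : Subgroup G) = ⊤) (E₀ : Subgroup (P : Subgroup G)) [E₀.Normal]
    (hE₀ : E₀ ≤ M.subgroupOf (P : Subgroup G))
    (hfr : M.subgroupOf (P : Subgroup G) ≤ E₀ ⊔ frattini (P : Subgroup G)) :
    M.subgroupOf (P : Subgroup G) = E₀ := by
  set D := M.subgroupOf (P : Subgroup G) with hD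
  by_contra hne
  haveI := P.2.isNilpotent
  set E := ⁅D, (⊤ : Subgroup (P : Subgroup G))⁆ ⊔ E₀ with hE
  have hED : E < D := lt_of_le_of_ne (sup_le (Subgroup.commutator_le_left D ⊤) hE₀) fun h =>
    hne (le_antisymm (Cfsg.Agent.PGroups.Basic.le_of_le_commutator_sup D E₀ h.ge) hE₀)
  haveI : E.Normal := inferInstance
  set π := QuotientGroup.mk' E with hπ
  set Z := D.map π with hZ
  have hZc : Z ≤ center ((P : Subgroup G) ⧸ E) := by
    rintro _ ⟨d, hd, rfl⟩
    rw [mem_center_iff]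
    intro y
    obtain ⟨y, rfl⟩ := QuotientGroup.mk'_surjective E y
    rw [hπ, ← map_mul, ← map_mul, eq_comm, QuotientGroup.mk'_apply, QuotientGroup.mk'_apply,
      QuotientGroup.eq]
    have h : d⁻¹ * y⁻¹ * d⁻¹⁻¹ * y⁻¹⁻¹ ∈ E :=
      mem_sup_left (commutator_mem_commutator (inv_mem hd) (mem_top _))
    have h2 : (d * y)⁻¹ * (y * d) = (y⁻¹ * d⁻¹ * y * d) := by group
    have h3 : y⁻¹ * d⁻¹ * y * d = (d⁻¹ * y⁻¹ * d⁻¹⁻¹ * y⁻¹⁻¹)⁻¹ := by group
    rw [h2, h3]
    exact inv_mem h
  haveI : IsMulCommutative Z := isMulCommutative_iff.mpr fun a b =>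
    Subtype.ext ((mem_center_iff.mp (hZc b.2)) a)
  haveI : Z.Normal := ⟨fun z hz g => by
    rw [mem_center_iff.mp (hZc hz) g, mul_inv_cancel_right]; exact hz⟩
  -- the fibre product over `G ⧸ M`
  let ι : (P : Subgroup G) ⧸ E →* G ⧸ M := QuotientGroup.lift E
    ((QuotientGroup.mk' M).comp (P : Subgroup G).subtype)
    (fun x hx => MonoidHom.mem_ker.mpr ((QuotientGroup.eq_one_iff (x : G)).mpr (hED.le hx)))
  have hι : ∀ y : (P : Subgroup G), ι (π y) = QuotientGroup.mk' M (y : G) := fun y => rfl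
  let Gh : Subgroup (G × ((P : Subgroup G) ⧸ E)) :=
    ((QuotientGroup.mk' M).comp (MonoidHom.fst _ _)).eqLocus (ι.comp (MonoidHom.snd _ _))
  have hGh : ∀ z, z ∈ Gh ↔ QuotientGroup.mk' M z.1 = ι z.2 := fun z => Iff.rfl
  let f : Gh →* G := (MonoidHom.fst _ _).comp Gh.subtype
  have hfs : Function.Surjective f := by
    intro g
    obtain ⟨m, hm, y, hy, rfl⟩ := mem_sup_of_normal_left.mp (htop ▸ mem_top g)
    refine ⟨⟨(m * y, π ⟨y, hy⟩), (hGh _).mpr ?_⟩, rfl⟩
    change QuotientGroup.mk' M (m * y) = QuotientGroup.mk' M y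
    rw [map_mul, QuotientGroup.mk'_apply, (QuotientGroup.eq_one_iff m).mpr hm, one_mul,
      QuotientGroup.mk'_apply]
  set Ph := (P : Subgroup G).comap f with hPh
  -- the homomorphism on the preimage of `P`
  have hmemZ : ∀ z : Ph, (π ⟨(z : Gh).1.1, z.2⟩)⁻¹ * (z : Gh).1.2 ∈ Z := by
    intro z
    obtain ⟨w, hw⟩ := QuotientGroup.mk'_surjective E (z : Gh).1.2
    rw [← hw, hπ, ← map_inv, ← map_mul]
    refine ⟨_, ?_, rfl⟩
    have h := (hGh _).mp (z : Gh).2
    rw [← hw, show ι (QuotientGroup.mk' E w) = QuotientGroup.mk' M (w : G) from rfl,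
      QuotientGroup.mk'_apply, QuotientGroup.mk'_apply, QuotientGroup.eq] at h
    exact mem_subgroupOf.mpr h
  let χ : Ph →* Z :=
    { toFun := fun z => ⟨_, hmemZ z⟩
      map_one' := Subtype.ext (by
        change (π ⟨1, _⟩)⁻¹ * 1 = 1
        rw [mul_one, inv_eq_one]
        exact map_one π)
      map_mul' := fun a b => Subtype.ext (by
        change (π (⟨(a : Gh).1.1, a.2⟩ * ⟨(b : Gh).1.1, b.2⟩))⁻¹ * ((a : Gh).1.2 * (b : Gh).1.2) =
          ((π ⟨(a : Gh).1.1, a.2⟩)⁻¹ * (a : Gh).1.2) * ((π ⟨(b : Gh).1.1, b.2⟩)⁻¹ * (b : Gh).1.2)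
        have hc := mem_center_iff.mp (hZc (hmemZ a)) (π ⟨(b : Gh).1.1, b.2⟩)⁻¹
        rw [map_mul, mul_inv_rev, ← mul_assoc, mul_assoc _ (π _)⁻¹ (a : Gh).1.2, hc]
        group) }
  let T : Gh →* Z := MonoidHom.transfer χ
  -- the copy of `Z` in the fibre product
  let j : Z →* Gh :=
    { toFun := fun z => ⟨(1, (z : (P : Subgroup G) ⧸ E)), (hGh _).mpr (by
        obtain ⟨d, hd, hdz⟩ := z.2
        change QuotientGroup.mk' M 1 = ι (z : (P : Subgroup G) ⧸ E)
        rw [← hdz, hι, map_one]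
        exact ((QuotientGroup.eq_one_iff (d : G)).mpr hd).symm)⟩
      map_one' := rfl
      map_mul' := fun a b => Subtype.ext (Prod.ext (one_mul 1).symm rfl) }
  have hjc : ∀ (z : Z) (x : Gh), x * j z = j z * x := fun z x => Subtype.ext (Prod.ext
    ((mul_one _).trans (one_mul _).symm) (mem_center_iff.mp (hZc z.2) x.1.2))
  have hindex : Ph.index = (P : Subgroup G).index :=
    index_comap_of_surjective _ hfs
  have hTj : ∀ z : Z, T (j z) = z ^ (P : Subgroup G).index := by
    intro z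
    have key : ∀ (k : ℕ) (g₀ : Gh), g₀⁻¹ * j z ^ k * g₀ ∈ Ph →
        g₀⁻¹ * j z ^ k * g₀ = j z ^ k := fun k g₀ _ => by
      rw [mul_assoc, ← map_pow, ← hjc, inv_mul_cancel_left]
    rw [show T (j z) = χ ⟨j z ^ Ph.index, _⟩ from MonoidHom.transfer_eq_pow χ (j z) key]
    refine Subtype.ext ?_
    change (π ⟨(j z ^ Ph.index : Gh).1.1, _⟩)⁻¹ * (j z ^ Ph.index : Gh).1.2 = _
    rw [← hindex]
    have h1 : ((j z ^ Ph.index : Gh) : G × _) = (1, (z : (P : Subgroup G) ⧸ E) ^ Ph.index) := by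
      rw [SubmonoidClass.coe_pow]
      exact Prod.ext (one_pow _) rfl
    refine (congrArg₂ (fun a b => a⁻¹ * b) ((congrArg π (Subtype.ext (congrArg Prod.fst h1) :
      _ = (1 : (P : Subgroup G)))).trans (map_one π)) (congrArg Prod.snd h1)).trans ?_
    rw [inv_one, one_mul]
    rfl
  have hcop : (Nat.card Z).Coprime (P : Subgroup G).index := by
    obtain ⟨k, hk⟩ := ((P.2.to_quotient E).to_subgroup Z).exists_card_eq
    rw [hk]
    exact Nat.Coprime.pow_left _ ((Nat.Prime.coprime_iff_not_dvd hp.out).mpr P.not_dvd_index)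
  set K := T.ker with hK
  have hKj : ∀ x : Gh, ∃ z : Z, x * j z ∈ K := by
    intro x
    obtain ⟨z, hz⟩ := (powCoprime hcop).surjective (T x)⁻¹
    refine ⟨z, ?_⟩
    rw [hK, MonoidHom.mem_ker, map_mul, hTj, show z ^ (P : Subgroup G).index = (T x)⁻¹ from hz,
      mul_inv_cancel]
  let fK : K →* G := f.comp K.subtype
  have hfK : Function.Bijective fK := by
    refine ⟨?_, fun g => ?_⟩
    · rw [← MonoidHom.ker_eq_bot_iff, eq_bot_iff]
      rintro ⟨x, hx⟩ hxg
      have hx1 : x.1.1 = 1 := hxg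
      have h := (hGh _).mp x.2
      rw [hx1, map_one] at h
      obtain ⟨y, hy⟩ := QuotientGroup.mk'_surjective E x.1.2
      rw [← hy] at h
      have hyD : y ∈ D := (QuotientGroup.eq_one_iff (y : G)).mp h.symm
      let z : Z := ⟨x.1.2, ⟨y, hyD, hy⟩⟩
      have hxz : x = j z := Subtype.ext (Prod.ext hx1 rfl)
      rw [hK, MonoidHom.mem_ker, hxz, hTj] at hx
      have hz1 : z = 1 := (powCoprime hcop).injective (hx.trans (one_pow _).symm)
      exact mem_bot.mpr (Subtype.ext (hxz.trans ((congrArg j hz1).trans (map_one j))))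
    · obtain ⟨x, rfl⟩ := hfs g
      obtain ⟨z, hz⟩ := hKj x
      exact ⟨⟨x * j z, hz⟩, mul_one _⟩
  let e : K ≃* G := MulEquiv.ofBijective fK hfK
  let φ : G →* (P : Subgroup G) ⧸ E :=
    ((MonoidHom.snd _ _).comp Gh.subtype).comp (K.subtype.comp e.symm.toMonoidHom)
  have hφ : ∀ g : G, QuotientGroup.mk' M g = ι (φ g) := fun g => by
    have h := (hGh _).mp ((e.symm g : K) : Gh).2
    rwa [show ((e.symm g : K) : Gh).1.1 = g from e.apply_symm_apply g] at h
  -- `φ` kills `M`
  have hφM : ∀ m ∈ M, φ m = 1 := by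
    intro m hm
    refine (closure_le (φ.ker)).mpr ?_ (hM hm)
    rintro g ⟨-, hg⟩
    obtain ⟨k, hk⟩ := P.2.to_quotient E (φ g)
    obtain ⟨i, -, hi⟩ := (Nat.dvd_prime_pow hp.out).mp (orderOf_dvd_of_pow_eq_one hk)
    rw [SetLike.mem_coe, MonoidHom.mem_ker, ← orderOf_eq_one_iff]
    exact Nat.Coprime.eq_one_of_dvd
      (((hi ▸ hg.pow_right i) : (orderOf g).Coprime (orderOf (φ g))).symm) (orderOf_map_dvd φ g)
  -- a proper supplement of `D`
  set S := φ.range with hS
  have hSU : S.comap π ⊔ D = ⊤ := by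
    rw [eq_top_iff]
    intro y _
    obtain ⟨w, hw⟩ := QuotientGroup.mk'_surjective E (φ (y : G))
    have h := hφ (y : G)
    rw [← hw, show ι (QuotientGroup.mk' E w) = QuotientGroup.mk' M (w : G) from rfl,
      QuotientGroup.mk'_apply, QuotientGroup.mk'_apply, eq_comm, QuotientGroup.eq] at h
    have hmem : w⁻¹ * y ∈ D := mem_subgroupOf.mpr h
    have h2 := mul_mem (mem_sup_left (T := D) (show w ∈ S.comap π from ⟨(y : G), hw.symm⟩))
      (mem_sup_right (S := S.comap π) hmem)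
    rwa [mul_inv_cancel_left] at h2
  have hE₀S : E₀ ≤ S.comap π := fun y hy => by
    rw [mem_comap, hπ, QuotientGroup.mk'_apply, (QuotientGroup.eq_one_iff y).mpr (mem_sup_right hy)]
    exact one_mem _
  have hSt : S.comap π = ⊤ :=
    frattini_nongenerating (top_le_iff.mp (hSU.ge.trans
      (sup_le le_sup_left (hfr.trans (sup_le_sup_right hE₀S _)))))
  -- but the range is too small
  obtain ⟨d, hd, hdE⟩ := SetLike.exists_of_lt hED
  obtain ⟨g, hg⟩ : π d ∈ S := hSt.ge (mem_top d)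
  have hgM : g ∈ M := by
    have h := hφ g
    rw [hg, hι, QuotientGroup.mk'_apply, QuotientGroup.mk'_apply,
      (QuotientGroup.eq_one_iff (d : G)).mpr hd] at h
    exact (QuotientGroup.eq_one_iff g).mp h
  rw [hφM g hgM] at hg
  exact hdE ((QuotientGroup.eq_one_iff d).mp hg.symm)

theorem inf_eq_bot (P : Sylow p G) (M : Subgroup G) [M.Normal]
    (hM : M ≤ closure {g : G | g ∈ M ∧ (orderOf g).Coprime p})
    (htop : M ⊔ (P : Subgroup G) = ⊤)
    (hfr : M.subgroupOf (P : Subgroup G) ≤ frattini (P : Subgroup G)) :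
    M ⊓ (P : Subgroup G) = ⊥ := by
  have h := eq_of_le_sup_frattini P M hM htop ⊥ bot_le (hfr.trans le_sup_right)
  rw [eq_bot_iff]
  intro x hx
  have h2 : (⟨x, hx.2⟩ : (P : Subgroup G)) ∈ M.subgroupOf (P : Subgroup G) := hx.1
  rw [h, mem_bot] at h2
  exact congrArg Subtype.val h2

/-- A normal subgroup meeting a Sylow `p`-subgroup in its Frattini subgroup has a normal
`p`-complement. -/
theorem hasNormalPComplement_of_inf_le_frattini (P : Sylow p G) (N : Subgroup G) [hN : N.Normal]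
    (h : N ⊓ (P : Subgroup G) ≤ (frattini (P : Subgroup G)).map (P : Subgroup G).subtype) :
    HasNormalPComplement p N := by
  rw [hasNormalPComplement_iff_pResidual]
  set K := (pResidual p N).map N.subtype with hK
  haveI : K.Normal := by
    haveI : (pResidual p N).Characteristic :=
      characteristic_iff_map_le.mpr fun e => map_pResidual_le e.toMonoidHom
    infer_instance
  set L := K ⊔ (P : Subgroup G) with hL
  have hPL : (P : Subgroup G) ≤ L := le_sup_right
  let Q : Sylow p L := P.subtype hPL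
  have hQ : (Q : Subgroup L) = (P : Subgroup G).subgroupOf L := rfl
  have hbot := inf_eq_bot Q (K.subgroupOf L) ?_ ?_ ?_
  · have hKP : K ⊓ (P : Subgroup G) = ⊥ := by
      rw [eq_bot_iff]
      intro x hx
      obtain ⟨hxK, hxP⟩ := mem_inf.mp hx
      have : (⟨x, hPL hxP⟩ : L) ∈ K.subgroupOf L ⊓ (Q : Subgroup L) := ⟨hxK, hxP⟩
      rw [hbot, mem_bot] at this
      exact congrArg Subtype.val this
    rw [← card_map_of_injective (f := N.subtype) N.subtype_injective, ← hK]
    refine ((Nat.Prime.coprime_iff_not_dvd hp.out).mpr fun hd => ?_).symm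
    have h1 : (P : Subgroup G).relIndex K ∣ (P : Subgroup G).index :=
      Cfsg.Agent.Cores.relIndex_dvd_index_right_normal _ _
    rw [← inf_relIndex_right, inf_comm, hKP, relIndex_bot_left] at h1
    exact P.not_dvd_index (hd.trans h1)
  · intro x hx
    obtain ⟨x, hxL⟩ := x
    have hx' : x ∈ ((closure {g : L | g ∈ K.subgroupOf L ∧ (orderOf g).Coprime p}).map L.subtype) := by
      have hxK : x ∈ K := hx
      rw [hK, Cfsg.pResidual, MonoidHom.map_closure] at hxK
      refine (closure_le _).mpr ?_ hxK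
      rintro _ ⟨g, hg, rfl⟩
      have hgK : (g : G) ∈ K := ⟨g, subset_closure hg, rfl⟩
      exact ⟨⟨g, le_sup_left (b := (P : Subgroup G)) hgK⟩, subset_closure ⟨hgK, by
        rw [← Subgroup.orderOf_coe, Subgroup.coe_mk, Subgroup.orderOf_coe]; exact hg⟩, rfl⟩
    obtain ⟨y, hy, hyx⟩ := hx'
    rwa [show y = ⟨x, hxL⟩ from Subtype.ext hyx] at hy
  · rw [hQ, ← subgroupOf_sup le_sup_left hPL, subgroupOf_self]
  · let e : (Q : Subgroup L) ≃* (P : Subgroup G) := subgroupOfEquivOfLe hPL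
    intro x hx
    have hxK : ((x : L) : G) ∈ K := hx
    have h2 := h ⟨map_subtype_le (pResidual p N) hxK, (e x).2⟩
    obtain ⟨y, hy, hyx⟩ := h2
    have hyx' : y = e x := Subtype.ext hyx
    haveI : (frattini (Q : Subgroup L)).Characteristic := inferInstance
    rw [hyx'] at hy
    have hsub : frattini (P : Subgroup G) ≤ (frattini (Q : Subgroup L)).map e.toMonoidHom := by
      intro z hz
      refine ⟨e.symm z, ?_, e.apply_symm_apply z⟩
      change e.symm z ∈ Order.radical (Subgroup (Q : Subgroup L))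
      rw [Order.radical, Subgroup.mem_iInf]
      intro M
      rw [Subgroup.mem_iInf]
      intro hM
      change z ∈ M.comap e.symm.toMonoidHom
      exact (frattini_le_coatom (isCoatom_comap_of_surjective e.symm.surjective hM)) hz
    obtain ⟨w, hw, hwe⟩ := hsub hy
    rwa [e.injective hwe] at hw

end Cfsg.Agent.Transfer.Tate
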