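import Mathlib.GroupTheory.Transfer
import Mathlib.GroupTheory.Abelianization.Defs

/-!
An abelian subgroup with order prime to its index meets `G' ∩ Z(G)` trivially.
-/

set_option autoImplicit false

namespace Cfsg.Agent.Transfer.CenterInf

open Subgroup

variable {G : Type*} [Group G] [Finite G]

theorem inf_commutator_inf_center (H : Subgroup G) [IsMulCommutative H]
    (hHall : Nat.Coprime (Nat.card H) H.index) : H ⊓ commutator G ⊓ center G = ⊥ := by
  open scoped IsMulCommutative in
  rw [eq_bot_iff]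
  intro x hx
  obtain ⟨⟨hxH, hxG⟩, hxZ⟩ := hx
  have key : ∀ (k : ℕ) (g₀ : G), g₀⁻¹ * x ^ k * g₀ ∈ H → g₀⁻¹ * x ^ k * g₀ = x ^ k := by
    intro k g₀ _
    rw [mul_assoc, ← (mem_center_iff.mp (pow_mem hxZ k) g₀), inv_mul_cancel_left]
  have h1 := MonoidHom.transfer_eq_pow (MonoidHom.id H) x key
  have h2 : MonoidHom.transfer (MonoidHom.id H) x = 1 :=
    Abelianization.commutator_subset_ker (MonoidHom.transfer (MonoidHom.id H)) hxG
  have h3 : (⟨x, hxH⟩ : H) ^ H.index = 1 := by
    rw [h2] at h1
    exact Subtype.ext (congrArg Subtype.val h1).symm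
  have h4 : (⟨x, hxH⟩ : H) = 1 := (powCoprime hHall).injective (h3.trans (one_pow _).symm)
  exact congrArg Subtype.val h4

end Cfsg.Agent.Transfer.CenterInf
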