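import Cfsg.Agent.Lib.Transfer.Frobenius

/-!
Wielandt's theorem on nilpotent Hall subgroups, and control of fusion implies a normal complement.
-/

set_option autoImplicit false
set_option linter.unusedSectionVars false

namespace Cfsg.Agent.Transfer.NilpotentHall

open scoped commutatorElement
open Cfsg Subgroup Cfsg.Agent.PLocal.Cores Cfsg.Agent.Transfer.NormalPComplement
  Cfsg.Agent.Transfer.Fusion Cfsg.Agent.Transfer.Frobenius

universe u

section Sylow

variable {G : Type u} [Group G] [Finite G] {p : ℕ} [Fact p.Prime]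

/-- A Hall subgroup contains a Sylow subgroup for every prime dividing its order. -/
theorem exists_sylow_map_eq {H : Subgroup G} (hHall : Nat.Coprime (Nat.card H) H.index)
    (hp : p ∣ Nat.card H) (S : Sylow p H) :
    ∃ P : Sylow p G, (P : Subgroup G) = (S : Subgroup H).map H.subtype := by
  refine ⟨(S.2.map H.subtype).toSylow ?_, rfl⟩
  rw [index_map_subtype]
  refine Nat.Prime.not_dvd_mul Fact.out S.not_dvd_index ?_
  exact fun h => Nat.not_coprime_of_dvd_of_dvd (Fact.out : p.Prime).one_lt hp h hHall

/-- In a finite nilpotent group the Sylow subgroup together with its centralizer is everything. -/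
theorem centralizer_sup_eq_top [Group.IsNilpotent G] (P : Sylow p G) :
    centralizer ((P : Subgroup G) : Set G) ⊔ (P : Subgroup G) = ⊤ := by
  rw [← index_eq_one]
  by_contra hne
  obtain ⟨q, hq, hdvd⟩ := Nat.exists_prime_and_dvd hne
  by_cases hqp : q = p
  · subst hqp
    exact P.not_dvd_index (hdvd.trans (index_dvd_of_le le_sup_right))
  · have := Fact.mk hq
    obtain ⟨Q⟩ := (inferInstance : Nonempty (Sylow q G))
    have hle : (Q : Subgroup G) ≤ centralizer ((P : Subgroup G) : Set G) := fun x hx y hy =>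
      (commute_of_normal_of_disjoint _ _ inferInstance inferInstance
        (IsPGroup.disjoint_of_ne p q (Ne.symm hqp) _ _ P.2 Q.2) y x hy hx).eq
    exact Q.not_dvd_index (hdvd.trans (index_dvd_of_le (hle.trans le_sup_left)))

/-- A Sylow subgroup which controls its own fusion satisfies the Frobenius condition. -/
theorem condition_of_fusion (P : Sylow p G)
    (h : ∀ x ∈ P, ∀ g : G, g * x * g⁻¹ ∈ P → ∃ s ∈ P, s * x * s⁻¹ = g * x * g⁻¹) :
    Condition p G := by
  refine Condition.of_sylow P fun Q hQ g hg ho => ?_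
  have hnil : Group.IsNilpotent ↥(P : Subgroup G) := P.2.isNilpotent
  have key : ∀ i : ℕ, ∀ x : ↥(P : Subgroup G), (x : G) ∈ Q →
      x ∈ Subgroup.upperCentralSeries ↥(P : Subgroup G) i → g * x * g⁻¹ = x := by
    intro i
    induction i with
    | zero =>
      intro x _ hx
      rw [Subgroup.upperCentralSeries_zero, mem_bot] at hx
      simp [hx]
    | succ i ih =>
      intro x hxQ hx
      have hyQ : g * x * g⁻¹ ∈ Q := (hg x).mp hxQ
      obtain ⟨s, hs, he⟩ := h x x.2 g (hQ hyQ)
      let d : ↥(P : Subgroup G) := ⟨(x : G)⁻¹ * (g * x * g⁻¹),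
        mul_mem (inv_mem x.2) (hQ hyQ)⟩
      have hdi : d ∈ Subgroup.upperCentralSeries ↥(P : Subgroup G) i := by
        have h1 := Subgroup.mem_upperCentralSeries_succ_iff.mp (inv_mem hx) ⟨s, hs⟩
        have h2 : d = x⁻¹ * ⟨s, hs⟩ * x⁻¹⁻¹ * (⟨s, hs⟩ : ↥(P : Subgroup G))⁻¹ := by
          apply Subtype.ext
          change (x : G)⁻¹ * (g * x * g⁻¹) = _
          rw [← he]
          simp [mul_assoc]
        rw [h2]
        exact h1
      have hdQ : (d : G) ∈ Q := Q.mul_mem (Q.inv_mem hxQ) hyQ
      have hgd := ih d hdQ hdi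
      have hgx : g * x * g⁻¹ = x * d := by
        change _ = (x : G) * ((x : G)⁻¹ * (g * x * g⁻¹))
        rw [mul_inv_cancel_left]
      have hpow : ∀ m : ℕ, g ^ m * x * (g ^ m)⁻¹ = x * (d : G) ^ m := by
        intro m
        induction m with
        | zero => simp
        | succ m ihm =>
          calc g ^ (m + 1) * x * (g ^ (m + 1))⁻¹ = g * (g ^ m * x * (g ^ m)⁻¹) * g⁻¹ := by
                rw [pow_succ']; group
            _ = g * x * g⁻¹ * (g * (d : G) * g⁻¹) ^ m := by rw [ihm, conj_pow]; group
            _ = x * (d : G) ^ (m + 1) := by rw [hgd, hgx, pow_succ', mul_assoc]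
      have hd1 : (d : G) = 1 := by
        have h1 := hpow (orderOf g)
        rw [pow_orderOf_eq_one, one_mul, inv_one, mul_one, left_eq_mul] at h1
        obtain ⟨k, hk⟩ := IsPGroup.iff_orderOf.mp P.2 d
        rw [← orderOf_eq_one_iff]
        have hk' : orderOf (d : G) = p ^ k := by rw [Subgroup.orderOf_coe, hk]
        refine Nat.eq_one_of_dvd_coprimes (Nat.Coprime.pow_right k ho)
          (orderOf_dvd_of_pow_eq_one h1) ?_
        rw [hk']
      rw [hgx, hd1, mul_one]
  intro x hx
  have hfix := key (Group.nilpotencyClass ↥(P : Subgroup G)) ⟨x, hQ hx⟩ hx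
    (by rw [Subgroup.upperCentralSeries_nilpotencyClass]; exact mem_top _)
  exact (mul_inv_eq_iff_eq_mul.mp hfix).symm

end Sylow

/-- Wielandt: nilpotent Hall subgroups of the same order are conjugate. -/
theorem exists_conj_of_nilpotent_hall : ∀ {G : Type u} [Group G] [Finite G] {H K : Subgroup G},
    Group.IsNilpotent H → Group.IsNilpotent K → Nat.card H = Nat.card K →
      Nat.Coprime (Nat.card H) H.index →
      ∃ g : G, H.map (MulAut.conj g).toMonoidHom = K := by
  suffices ∀ n : ℕ, ∀ (G : Type u) [Group G] [Finite G] (H K : Subgroup G), Nat.card H = n →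
      Group.IsNilpotent H → Group.IsNilpotent K → Nat.card H = Nat.card K →
      Nat.Coprime (Nat.card H) H.index →
      ∃ g : G, H.map (MulAut.conj g).toMonoidHom = K from
    fun {G} _ _ H K => this _ G H K rfl
  intro n
  induction n using Nat.strong_induction_on with
  | _ n ih =>
    intro G _ _ H K hn hH hK hcard hHall
    by_cases h1 : Nat.card H = 1
    · refine ⟨1, ?_⟩
      rw [map_conj_one, eq_bot_of_card_eq H h1, eq_bot_of_card_eq K (hcard ▸ h1)]
    obtain ⟨p, hp, hpd⟩ := Nat.exists_prime_and_dvd h1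
    have := Fact.mk hp
    have hKHall : Nat.Coprime (Nat.card K) K.index := by
      have hidx : H.index = K.index := by
        have e1 := H.card_mul_index
        rw [← K.card_mul_index, hcard] at e1
        exact Nat.eq_of_mul_eq_mul_left Nat.card_pos e1
      rw [← hcard, ← hidx]
      exact hHall
    obtain ⟨S⟩ := (inferInstance : Nonempty (Sylow p H))
    obtain ⟨T⟩ := (inferInstance : Nonempty (Sylow p K))
    obtain ⟨P, hP⟩ := exists_sylow_map_eq hHall hpd S
    obtain ⟨Q, hQ⟩ := exists_sylow_map_eq hKHall (hcard ▸ hpd) T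
    have hPH : (P : Subgroup G) ≤ H := hP ▸ map_subtype_le _
    have hQK : (Q : Subgroup G) ≤ K := hQ ▸ map_subtype_le _
    have hHN : H ≤ normalizer (P : Set G) := by
      change H ≤ normalizer ((P : Subgroup G) : Set G)
      rw [hP]
      intro x hx
      exact le_normalizer_map H.subtype ⟨⟨x, hx⟩, by rw [normalizer_eq_top]; trivial, rfl⟩
    have hKN : K ≤ normalizer (Q : Set G) := by
      change K ≤ normalizer ((Q : Subgroup G) : Set G)
      rw [hQ]
      intro x hx
      exact le_normalizer_map K.subtype ⟨⟨x, hx⟩, by rw [normalizer_eq_top]; trivial, rfl⟩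
    obtain ⟨g, hg⟩ := MulAction.exists_smul_eq G Q P
    set K' := K.map (MulAut.conj g).toMonoidHom with hK'
    have hPK' : (P : Subgroup G) ≤ K' := by
      rw [← hg, coe_smul_eq_map]
      exact map_mono hQK
    have hK'N : K' ≤ normalizer (P : Set G) := by
      change K' ≤ normalizer ((P : Subgroup G) : Set G)
      rw [← hg, coe_smul_eq_map]
      exact le_trans (map_mono hKN) (le_normalizer_map _)
    set N := normalizer (P : Set G) with hNdef
    set P₀ : Subgroup N := (P : Subgroup G).subgroupOf N
    have : P₀.Normal := normal_in_normalizer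
    set π := QuotientGroup.mk' P₀
    have hker : π.ker = P₀ := QuotientGroup.ker_mk' _
    have hcP : Nat.card P₀ = Nat.card (P : Subgroup G) :=
      Nat.card_congr (subgroupOfEquivOfLe le_normalizer).toEquiv
    have hquot : ∀ {L : Subgroup G}, (P : Subgroup G) ≤ L → L ≤ N → Group.IsNilpotent L →
        Nat.card ↥((L.subgroupOf N).map π) * Nat.card (P : Subgroup G) = Nat.card L ∧
          Group.IsNilpotent ↥((L.subgroupOf N).map π) ∧
          ((L.subgroupOf N).map π).comap π = L.subgroupOf N := by
      intro L hL1 hL2 hL3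
      have hle : π.ker ≤ L.subgroupOf N := by rw [hker]; exact fun x hx => hL1 hx
      refine ⟨?_, ?_, comap_map_eq_self hle⟩
      · rw [← Nat.card_congr (subgroupOfEquivOfLe hL2).toEquiv,
          card_eq_card_inf_ker_mul_card_map (L.subgroupOf N) π, inf_eq_right.mpr hle, hker, hcP,
          mul_comm]
      · have : Group.IsNilpotent ↥(L.subgroupOf N) :=
          Group.nilpotent_of_mulEquiv (subgroupOfEquivOfLe hL2).symm
        exact Group.nilpotent_of_surjective (π.subgroupMap _) (π.subgroupMap_surjective _)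
    have hK'nil : Group.IsNilpotent K' :=
      Group.nilpotent_of_surjective ((MulAut.conj g).toMonoidHom.subgroupMap K)
        (MonoidHom.subgroupMap_surjective _ _)
    obtain ⟨c1, n1, e1⟩ := hquot hPH hHN hH
    obtain ⟨c2, n2, e2⟩ := hquot hPK' hK'N hK'nil
    have hc2 : Nat.card K' = Nat.card H := (card_map_conj K g).trans hcard.symm
    have hP1 : 1 < Nat.card (P : Subgroup G) := by
      refine (one_lt_card_iff_ne_bot _).mpr (P.ne_bot_of_dvd_card ?_)
      exact hpd.trans (card_subgroup_dvd_card H)
    have hlt : Nat.card ↥((H.subgroupOf N).map π) < n := by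
      rw [← hn, ← c1]
      exact lt_mul_right Nat.card_pos hP1
    have hce : Nat.card ↥((H.subgroupOf N).map π) = Nat.card ↥((K'.subgroupOf N).map π) := by
      refine Nat.eq_of_mul_eq_mul_right (Nat.zero_lt_of_lt hP1) ?_
      rw [c1, c2, hc2]
    have hco : Nat.Coprime (Nat.card ↥((H.subgroupOf N).map π))
        ((H.subgroupOf N).map π).index := by
      refine (Nat.Coprime.coprime_dvd_left (Dvd.intro _ c1) ?_)
      refine hHall.coprime_dvd_right ?_
      refine dvd_trans (index_map_dvd _ (QuotientGroup.mk'_surjective _)) ?_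
      exact relIndex_dvd_index_of_le hHN
    obtain ⟨q, hq⟩ := ih _ hlt (N ⧸ P₀) _ _ rfl n1 n2 hce hco
    obtain ⟨m, rfl⟩ := QuotientGroup.mk'_surjective P₀ q
    refine ⟨g⁻¹ * m, ?_⟩
    have hmain : (H.subgroupOf N).map (MulAut.conj m).toMonoidHom = K'.subgroupOf N := by
      have hcomp : ((H.subgroupOf N).map (MulAut.conj m).toMonoidHom).map π =
          ((H.subgroupOf N).map π).map (MulAut.conj (π m)).toMonoidHom := by
        rw [map_map, map_map]
        congr 1
      rw [← e2, ← hq, ← hcomp, comap_map_eq_self]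
      rw [hker]
      intro x hx
      refine mem_map_conj.mpr (hPH ?_)
      have hmn : ((m⁻¹ : N) : G) ∈ normalizer (P : Set G) := (m⁻¹).2
      have hx' := (hmn (x : G)).mp hx
      simp only [coe_inv, inv_inv] at hx' ⊢
      exact hx'
    have hmainG : H.map (MulAut.conj (m : G)).toMonoidHom = K' := by
      rw [← map_subgroupOf_eq_of_le hK'N, ← hmain, map_map]
      conv_lhs => rw [← map_subgroupOf_eq_of_le hHN, map_map]
      rfl
    rw [map_conj_mul, hmainG, hK', map_conj_inv_cancel]

/-- Fusion in an abelian Hall subgroup is controlled by its normalizer. -/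
theorem exists_normalizer_conj_of_abelian_hall {G : Type u} [Group G] [Finite G] {H : Subgroup G}
    [IsMulCommutative H] (hHall : Nat.Coprime (Nat.card H) H.index) {x g : G} (hx : x ∈ H)
    (hy : g * x * g⁻¹ ∈ H) :
    ∃ n ∈ normalizer (H : Set G), n * x * n⁻¹ = g * x * g⁻¹ := by
  set C := centralizer ({g * x * g⁻¹} : Set G)
  set H' := H.map (MulAut.conj g).toMonoidHom with hH'
  have h1 : H ≤ C := fun h hh => mem_centralizer_iff.mpr (by
    rintro _ rfl
    exact ((H.le_centralizer hy) h hh).symm)
  have h2 : H' ≤ C := by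
    intro w hw
    have h := (H.le_centralizer hx) _ (mem_map_conj.mp hw)
    refine mem_centralizer_iff.mpr ?_
    rintro _ rfl
    calc g * x * g⁻¹ * w = g * (x * (g⁻¹ * w * g)) * g⁻¹ := by group
      _ = g * (g⁻¹ * w * g * x) * g⁻¹ := by rw [h]
      _ = w * (g * x * g⁻¹) := by group
  have hcH : Nat.card ↥(H.subgroupOf C) = Nat.card H :=
    Nat.card_congr (subgroupOfEquivOfLe h1).toEquiv
  have hcH' : Nat.card ↥(H'.subgroupOf C) = Nat.card H :=
    (Nat.card_congr (subgroupOfEquivOfLe h2).toEquiv).trans (card_map_conj H g)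
  have : Group.IsNilpotent ↥H := by
    open scoped IsMulCommutative in infer_instance
  have hn1 : Group.IsNilpotent ↥(H.subgroupOf C) :=
    Group.nilpotent_of_mulEquiv (subgroupOfEquivOfLe h1).symm
  have hn0 : Group.IsNilpotent ↥H' :=
    Group.nilpotent_of_surjective ((MulAut.conj g).toMonoidHom.subgroupMap H)
      (MonoidHom.subgroupMap_surjective _ _)
  have hn2 : Group.IsNilpotent ↥(H'.subgroupOf C) :=
    Group.nilpotent_of_mulEquiv (subgroupOfEquivOfLe h2).symm
  obtain ⟨c, hc⟩ := exists_conj_of_nilpotent_hall hn2 hn1 (hcH'.trans hcH.symm) (by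
    rw [hcH']
    refine hHall.coprime_dvd_right (dvd_trans (relIndex_dvd_index_of_le h2) ?_)
    have e1 := H'.card_mul_index
    rw [← H.card_mul_index, hH', card_map_conj] at e1
    rw [hH', Nat.eq_of_mul_eq_mul_left Nat.card_pos e1])
  have hcG : H'.map (MulAut.conj (c : G)).toMonoidHom = H := by
    rw [← map_subgroupOf_eq_of_le h1, ← hc]
    conv_lhs => rw [← map_subgroupOf_eq_of_le h2]
    rw [map_map, map_map]
    rfl
  refine ⟨(c : G) * g, map_conj_eq_self_iff.mp (by rw [map_conj_mul]; exact hcG), ?_⟩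
  have hck := mem_centralizer_iff.mp c.2 _ rfl
  calc (c : G) * g * x * ((c : G) * g)⁻¹ = (c : G) * (g * x * g⁻¹) * (c : G)⁻¹ := by group
    _ = g * x * g⁻¹ := by rw [← hck, mul_inv_cancel_right]

end Cfsg.Agent.Transfer.NilpotentHall
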