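import Cfsg.Agent.Lib.Suzuki.Multiplier
import Cfsg.Agent.GStructB.StemExt
import Cfsg.Agent.SimpleFacts.SLTwoMultiplier

/-!
Lifting criteria for the triviality of a multiplier.

For a central extension whose kernel has exponent two: when every involution lifts to involutions,
a Sylow subgroup `V T` with `V` elementary abelian, `T` dihedral of order eight or its product with
a group of order two, and an element of order three acting without fixed points on `V` and
normalised by `T`, lifts to a subgroup meeting the kernel trivially.  For the prime three there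
are two criteria by inversion.
-/

set_option autoImplicit false
set_option linter.style.haveILetI false
set_option linter.unusedSectionVars false

namespace Cfsg.Agent.Transfer.SplitLifts

open scoped Pointwise commutatorElement

variable {Γ G : Type*} [Group Γ] [Group G] (σ : Γ →* G)

/-- Every lift of `x` squares to one. -/
def Good (x : G) : Prop := ∀ X, σ X = x → X * X = 1

variable {σ} (hc : σ.ker ≤ Subgroup.center Γ)
include hc

theorem central {z : Γ} (hz : σ z = 1) (g : Γ) : Commute g z :=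
  Subgroup.mem_center_iff.1 (hc hz) g

theorem exists_central {X Y : Γ} (h : σ X = σ Y) : ∃ z, σ z = 1 ∧ Y = X * z :=
  ⟨X⁻¹ * Y, by rw [map_mul, map_inv, h, inv_mul_cancel], by rw [mul_inv_cancel_left]⟩

theorem conj_congr {T T' : Γ} (h : σ T = σ T') (X : Γ) : T * X * T⁻¹ = T' * X * T'⁻¹ := by
  obtain ⟨z, hz, rfl⟩ := exists_central hc h
  rw [mul_inv_rev]
  calc T * X * T⁻¹ = T * (z * z⁻¹) * X * T⁻¹ := by group
    _ = T * z * (z⁻¹ * X) * T⁻¹ := by group
    _ = T * z * (X * z⁻¹) * T⁻¹ := by rw [((central hc hz X).inv_right).eq]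
    _ = _ := by group

theorem comm_congr {X X' Y Y' : Γ} (hX : σ X = σ X') (hY : σ Y = σ Y') : ⁅X, Y⁆ = ⁅X', Y'⁆ := by
  have e1 : ⁅X, Y⁆ = ⁅X', Y⁆ := by
    rw [commutatorElement_def, commutatorElement_def, conj_congr hc hX Y]
  have e2 : ⁅Y, X'⁆ = ⁅Y', X'⁆ := by
    rw [commutatorElement_def, commutatorElement_def, conj_congr hc hY X']
  rw [e1, ← commutatorElement_inv, e2, commutatorElement_inv]

variable (hσ : Function.Surjective σ)
include hσ

theorem good_conj {x : G} (h : Good σ x) (g : G) : Good σ (g * x * g⁻¹) := by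
  intro Y hY
  obtain ⟨T, rfl⟩ := hσ g
  have hX : σ (T⁻¹ * Y * T) = x := by
    rw [map_mul, map_mul, map_inv, hY]; group
  calc Y * Y = T * ((T⁻¹ * Y * T) * (T⁻¹ * Y * T)) * T⁻¹ := by group
    _ = 1 := by rw [h _ hX]; group

/-- Commuting elements lift to commuting elements if they and their product are good. -/
theorem comm_of_good {x y : G} (hx : Good σ x) (hy : Good σ y) (hxy : Good σ (x * y)) {X Y : Γ}
    (hX : σ X = x) (hY : σ Y = y) : Commute X Y := by
  have h1 := hxy (X * Y) (by rw [map_mul, hX, hY])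
  have h2 := inv_eq_of_mul_eq_one_right h1
  rw [mul_inv_rev, inv_eq_of_mul_eq_one_right (hy Y hY), inv_eq_of_mul_eq_one_right (hx X hX)] at h2
  exact h2.symm

/-- The sum of a good frame is good. -/
theorem good_triple {x y w : G} (hx : Good σ x) (hy : Good σ y) (hw : Good σ w)
    (hxy : Good σ (x * y)) (hxw : Good σ (x * w)) (hyw : Good σ (y * w)) : Good σ (x * y * w) := by
  intro Z hZ
  obtain ⟨X, hX⟩ := hσ x
  obtain ⟨Y, hY⟩ := hσ y
  set W := (X * Y)⁻¹ * Z
  have hW : σ W = w := by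
    simp only [W, map_mul, map_inv, hX, hY, hZ]; group
  have e : Z = X * Y * W := by simp only [W]; group
  have c1 := comm_of_good hc hσ hx hy hxy hX hY
  have c2 := comm_of_good hc hσ hx hw hxw hX hW
  have c3 := comm_of_good hc hσ hy hw hyw hY hW
  rw [e, ((c2.mul_left c3)).symm.mul_mul_mul_comm, hw W hW, mul_one, c1.symm.mul_mul_mul_comm,
    hx X hX, hy Y hY, one_mul]

variable (hex : ∀ z, σ z = 1 → z * z = 1)
include hex

/-- An involution class containing a whole eight-group lifts to involutions. -/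
theorem good_of_class {v x y w : G} (hv : v * v = 1)
    (hx : IsConj v x) (hy : IsConj v y) (hw : IsConj v w) (hxy : IsConj v (x * y))
    (hxw : IsConj v (x * w)) (hyw : IsConj v (y * w)) (hxyw : IsConj v (x * y * w)) : Good σ v := by
  intro V hV
  set ε := V * V with hε
  have hε1 : σ ε = 1 := by rw [hε, map_mul, hV, hv]
  have hε2 := hex ε hε1
  have hcen : ∀ g, Commute g ε := central hc hε1
  have hval : ∀ {u : G}, IsConj v u → ∀ U, σ U = u → U * U = ε := by
    intro u hu U hU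
    obtain ⟨g, rfl⟩ := isConj_iff.1 hu
    obtain ⟨T, rfl⟩ := hσ g
    obtain ⟨z, hz, rfl⟩ := exists_central hc (X := T * V * T⁻¹) (Y := U)
      (by rw [hU, map_mul, map_mul, map_inv, hV])
    rw [(central hc hz (T * V * T⁻¹)).symm.mul_mul_mul_comm, hex z hz, mul_one,
      show T * V * T⁻¹ * (T * V * T⁻¹) = T * ε * T⁻¹ by rw [hε]; group, (hcen T).eq,
      mul_inv_cancel_right]
  have key : ∀ {p q : G}, IsConj v p → IsConj v q → IsConj v (p * q) → ∀ P Q, σ P = p → σ Q = q →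
      Q * P = ε * (P * Q) := by
    intro p q hp hq hpq P Q hP hQ
    have e := hval hpq (P * Q) (by rw [map_mul, hP, hQ])
    have e1 : P⁻¹ = ε * P := inv_eq_of_mul_eq_one_right (by
      rw [← mul_assoc, (hcen P).eq, mul_assoc, hval hp P hP, hε2])
    have e2 : Q⁻¹ = ε * Q := inv_eq_of_mul_eq_one_right (by
      rw [← mul_assoc, (hcen Q).eq, mul_assoc, hval hq Q hQ, hε2])
    calc Q * P = P⁻¹ * ((P * Q) * (P * Q)) * Q⁻¹ := by group
      _ = ε * P * ε * (ε * Q) := by rw [e, e1, e2]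
      _ = ε * P * (ε * ε) * Q := by group
      _ = ε * (P * Q) := by rw [hε2]; group
  obtain ⟨X, hX⟩ := hσ x
  obtain ⟨Y, hY⟩ := hσ y
  obtain ⟨W, hW⟩ := hσ w
  have kxw := key hx hw hxw X W hX hW
  have kyw := key hy hw hyw Y W hY hW
  have h7 := hval hxyw (X * Y * W) (by rw [map_mul, map_mul, hX, hY, hW])
  have hx2 := hval hx X hX
  have hy2 := hval hy Y hY
  have hw2 := hval hw W hW
  have hxy2 := hval hxy (X * Y) (by rw [map_mul, hX, hY])
  calc ε = X * Y * W * (X * Y * W) := h7.symm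
    _ = X * Y * (W * X) * (Y * W) := by group
    _ = X * Y * (ε * (X * W)) * (Y * W) := by rw [kxw]
    _ = (X * Y * ε) * X * (W * Y) * W := by group
    _ = (ε * (X * Y)) * X * (ε * (Y * W)) * W := by rw [kyw, (hcen (X * Y)).eq]
    _ = ε * ((X * Y * X) * ε) * Y * W * W := by group
    _ = ε * (ε * (X * Y * X)) * Y * W * W := by rw [(hcen (X * Y * X)).eq]
    _ = (ε * ε) * ((X * Y) * (X * Y)) * (W * W) := by group
    _ = 1 := by rw [hxy2, hw2, hε2, one_mul, hε2]

variable (hall : ∀ x : G, x * x = 1 → Good σ x)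
include hall

theorem comm_lift {x y : G} (hx : x * x = 1) (hy : y * y = 1) (hxy : Commute x y) {X Y : Γ}
    (hX : σ X = x) (hY : σ Y = y) : Commute X Y :=
  comm_of_good hc hσ (hall x hx) (hall y hy)
    (hall _ (by rw [hxy.symm.mul_mul_mul_comm, hx, hy, one_mul])) hX hY

/-- The criterion at the prime two. -/
theorem two_criterion [Finite Γ] [Finite G] {V : Subgroup G} (hV : ∀ v ∈ V, v * v = 1) {u : G}
    (hu : u ^ 3 = 1) (huV : ∀ v ∈ V, u * v * u⁻¹ ∈ V)
    (hfpf : ∀ v ∈ V, v * (u * v * u⁻¹) * (u * u * v * (u * u)⁻¹) = 1) {a b c : G} (ha : a * a = 1)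
    (hb : b * b = 1) (hc2 : c * c = 1) (hab : (a * b) ^ 4 = 1) (hac : Commute a c) (hbc : Commute b c)
    (hnorm : ∀ t ∈ ({a, b, c} : Set G), (∀ v ∈ V, t * v * t⁻¹ ∈ V) ∧
      (t * u * t⁻¹ = u ∨ t * u * t⁻¹ = u * u))
    {m : ℕ} (hm : c ^ m = 1) (hm0 : 0 < m)
    (hinV : ∀ (i : Fin 4) (j : Fin 2) (k : Fin m),
      (a * b) ^ (i : ℕ) * a ^ (j : ℕ) * c ^ (k : ℕ) ∈ V → (i : ℕ) = 0 ∧ (j : ℕ) = 0 ∧ (k : ℕ) = 0)
    (hinj : Function.Injective fun p : Fin 4 × Fin 2 × Fin m =>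
      (a * b) ^ (p.1 : ℕ) * a ^ (p.2.1 : ℕ) * c ^ (p.2.2 : ℕ))
    {N : ℕ} (hcard : Nat.card V * (8 * m) = 2 ^ N) (hN : (Nat.card G).factorization 2 = N)
    (P : Sylow 2 Γ) : ⁅(P : Subgroup Γ), (P : Subgroup Γ)⁆ ⊓ σ.ker = ⊥ := by
  classical
  haveI : Fact (Nat.Prime 2) := ⟨Nat.prime_two⟩
  obtain ⟨U, hU⟩ := hσ u
  obtain ⟨A, hA⟩ := hσ a
  obtain ⟨B, hB⟩ := hσ b
  obtain ⟨C, hC, hCm⟩ : ∃ C, σ C = c ∧ C ^ m = 1 := by
    by_cases h1 : c = 1
    · exact ⟨1, by rw [map_one, h1], one_pow _⟩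
    · obtain ⟨C, hC⟩ := hσ c
      refine ⟨C, hC, ?_⟩
      have ho : orderOf c = 2 := orderOf_eq_prime (by rw [pow_two]; exact hc2) h1
      obtain ⟨k, rfl⟩ : 2 ∣ m := ho ▸ orderOf_dvd_of_pow_eq_one hm
      rw [pow_mul, pow_two, hall c hc2 C hC, one_pow]
  have hA2 := hall a ha A hA
  have hB2 := hall b hb B hB
  have hAC : Commute A C := comm_lift hc hσ hex hall ha hc2 hac hA hC
  have hBC : Commute B C := comm_lift hc hσ hex hall hb hc2 hbc hB hC
  set R := A * B
  have hR4 : R ^ 4 = 1 := by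
    have h := hall ((a * b) ^ 2) (by rw [← pow_add]; exact hab) (R ^ 2)
      (by rw [map_pow, map_mul, hA, hB])
    rwa [← pow_add] at h
  have hRC : Commute R C := hAC.mul_left hBC
  have hAR : ∀ i : ℕ, A * R ^ i = R ^ (3 * i) * A := by
    have h1 : A * R = R ^ 3 * A := by
      have : R ^ 3 = R⁻¹ := eq_inv_of_mul_eq_one_left (by rw [← pow_succ]; exact hR4)
      rw [this]
      simp only [R, mul_inv_rev, inv_eq_of_mul_eq_one_right hA2, inv_eq_of_mul_eq_one_right hB2]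
      rw [← mul_assoc, hA2, one_mul, mul_assoc, hA2, mul_one]
    intro i
    induction i with
    | zero => simp
    | succ i ih =>
      rw [pow_succ, ← mul_assoc, ih, mul_assoc, h1, ← mul_assoc, ← pow_add, Nat.mul_succ]
  set T := Subgroup.closure ({A, B, C} : Set Γ)
  have hform : ∀ X ∈ T, ∃ (i : Fin 4) (j : Fin 2) (k : Fin m),
      X = R ^ (i : ℕ) * A ^ (j : ℕ) * C ^ (k : ℕ) := by
    have hred : ∀ i j k : ℕ, ∃ (i' : Fin 4) (j' : Fin 2) (k' : Fin m),
        R ^ i * A ^ j * C ^ k = R ^ (i' : ℕ) * A ^ (j' : ℕ) * C ^ (k' : ℕ) := fun i j k =>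
      ⟨⟨i % 4, Nat.mod_lt _ (by norm_num)⟩, ⟨j % 2, Nat.mod_lt _ (by norm_num)⟩, ⟨k % m, Nat.mod_lt _ hm0⟩,
        by rw [← pow_eq_pow_mod i hR4, ← pow_eq_pow_mod j (show A ^ 2 = 1 by rw [pow_two, hA2]),
          ← pow_eq_pow_mod k hCm]⟩
    have hgen : ∀ g ∈ ({A, B, C} : Set Γ), ∀ i j k : ℕ, ∃ i' j' k' : ℕ,
        g * (R ^ i * A ^ j * C ^ k) = R ^ i' * A ^ j' * C ^ k' := by
      intro g hg i j k
      rcases hg with rfl | rfl | rfl
      · exact ⟨3 * i, j + 1, k, by rw [← mul_assoc, ← mul_assoc, hAR, pow_succ', ← mul_assoc]⟩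
      · refine ⟨3 * (i + 1), j + 1, k, ?_⟩
        have : g = A * R := by simp only [R, ← mul_assoc, hA2, one_mul]
        conv_lhs => arg 1; rw [this]
        rw [mul_assoc A R, ← mul_assoc R, ← mul_assoc R, ← pow_succ', ← mul_assoc, ← mul_assoc, hAR,
          pow_succ', ← mul_assoc]
      · refine ⟨i, j, k + 1, ?_⟩
        rw [← mul_assoc, ((hRC.symm.pow_right i).mul_right (hAC.symm.pow_right j)).eq, mul_assoc,
          ← pow_succ']
    have hginv : ∀ g ∈ ({A, B, C} : Set Γ), g⁻¹ = g := by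
      rintro g (rfl | rfl | rfl)
      · exact inv_eq_of_mul_eq_one_right hA2
      · exact inv_eq_of_mul_eq_one_right hB2
      · exact inv_eq_of_mul_eq_one_right (hall c hc2 _ hC)
    intro X hX
    obtain ⟨i, j, k, rfl⟩ : ∃ i j k : ℕ, X = R ^ i * A ^ j * C ^ k := by
      induction hX using Subgroup.closure_induction_left with
      | one => exact ⟨0, 0, 0, by simp⟩
      | mul_left g hg y _ ih =>
        obtain ⟨i, j, k, rfl⟩ := ih
        exact hgen g hg i j k
      | inv_mul_cancel g hg y _ ih =>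
        obtain ⟨i, j, k, rfl⟩ := ih
        rw [hginv g hg]
        exact hgen g hg i j k
    exact hred i j k
  have hmapR : σ R = a * b := by rw [map_mul, hA, hB]
  have hTker : ∀ X ∈ T, σ X ∈ V → X = 1 := by
    intro X hX hXV
    obtain ⟨i, j, k, rfl⟩ := hform X hX
    rw [map_mul, map_mul, map_pow, map_pow, map_pow, hmapR, hA, hC] at hXV
    obtain ⟨h1, h2, h3⟩ := hinV i j k hXV
    simp [h1, h2, h3]
  -- the complement over `V`
  set Nm : Γ → Γ := fun X => X * (U * X * U⁻¹) * (U * U * X * (U * U)⁻¹)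
  have hin : ∀ {X}, σ X ∈ V → σ (U * X * U⁻¹) ∈ V := fun {X} h => by
    rw [map_mul, map_mul, map_inv, hU]; exact huV _ h
  have hin2 : ∀ {X}, σ X ∈ V → σ (U * U * X * (U * U)⁻¹) ∈ V := fun {X} h => by
    rw [show U * U * X * (U * U)⁻¹ = U * (U * X * U⁻¹) * U⁻¹ by group]; exact hin (hin h)
  have hVc : ∀ {X Y}, σ X ∈ V → σ Y ∈ V → Commute X Y := fun {X Y} hX hY => by
    refine comm_lift hc hσ hex hall (hV _ hX) (hV _ hY) ?_ rfl rfl
    have h := hV _ (mul_mem hX hY)
    have h' := inv_eq_of_mul_eq_one_right h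
    rw [mul_inv_rev, inv_eq_of_mul_eq_one_right (hV _ hY), inv_eq_of_mul_eq_one_right (hV _ hX)] at h'
    exact h'.symm
  have hNmul : ∀ {X Y}, σ X ∈ V → σ Y ∈ V → Nm (X * Y) = Nm X * Nm Y := fun {X Y} hX hY => by
    simp only [Nm]
    rw [show U * (X * Y) * U⁻¹ = (U * X * U⁻¹) * (U * Y * U⁻¹) by group,
      show U * U * (X * Y) * (U * U)⁻¹ = (U * U * X * (U * U)⁻¹) * (U * U * Y * (U * U)⁻¹) by group,
      (hVc hY (hin hX)).mul_mul_mul_comm,
      Commute.mul_mul_mul_comm ((hVc hY (hin2 hX)).mul_left (hVc (hin hY) (hin2 hX)))]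
  let W : Subgroup Γ :=
    { carrier := {X | σ X ∈ V ∧ Nm X = 1}
      one_mem' := ⟨by rw [map_one]; exact V.one_mem, by simp [Nm]⟩
      mul_mem' := fun {X Y} hX hY => ⟨by rw [map_mul]; exact mul_mem hX.1 hY.1,
        by rw [hNmul hX.1 hY.1, hX.2, hY.2, one_mul]⟩
      inv_mem' := fun {X} hX => by
        rw [inv_eq_of_mul_eq_one_right (hall _ (hV _ hX.1) X rfl)]; exact hX }
  have hWker : ∀ X ∈ W, σ X = 1 → X = 1 := by
    intro X hX h
    have h2 := hX.2
    simp only [Nm] at h2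
    rw [(central hc h U).eq, mul_inv_cancel_right, (central hc h (U * U)).eq, mul_inv_cancel_right,
      hex X h, one_mul] at h2
    exact h2
  have hWsurj : ∀ v ∈ V, ∃ X ∈ W, σ X = v := by
    intro v hv
    obtain ⟨X, hX⟩ := hσ v
    have hXV : σ X ∈ V := hX ▸ hv
    have hN1 : σ (Nm X) = 1 := by
      simp only [Nm, map_mul, map_inv, hU, hX]; exact hfpf v hv
    refine ⟨X * Nm X, ⟨?_, ?_⟩, by rw [map_mul, hX, hN1, mul_one]⟩
    · rw [map_mul, hN1, mul_one]; exact hXV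
    · rw [hNmul hXV (by rw [hN1]; exact V.one_mem)]
      set z := Nm X
      simp only [Nm]
      rw [(central hc hN1 U).eq, mul_inv_cancel_right, (central hc hN1 (U * U)).eq, mul_inv_cancel_right,
        hex z hN1, one_mul, hex z hN1]
  have hU3 : ∀ X, U * U * U * X * (U * U * U)⁻¹ = X := fun X => by
    have h3 : σ (U * U * U) = 1 := by rw [map_mul, map_mul, hU, ← pow_three', hu]
    rw [← (central hc h3 X).eq, mul_inv_cancel_right]
  have hnW : T ≤ Subgroup.normalizer (W : Set Γ) := by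
    rw [Subgroup.closure_le]
    intro g hg
    have hgs : σ g ∈ ({a, b, c} : Set G) := by
      rcases hg with rfl | rfl | rfl <;> simp [hA, hB, hC]
    obtain ⟨hgV, hgu⟩ := hnorm _ hgs
    have hginv : g * g = 1 := by
      rcases hg with rfl | rfl | rfl
      exacts [hA2, hB2, hall c hc2 _ hC]
    have key : ∀ X ∈ W, g * X * g⁻¹ ∈ W := by
      intro X hX
      refine ⟨by rw [map_mul, map_mul, map_inv]; exact hgV _ hX.1, ?_⟩
      have hgi : g⁻¹ = g := inv_eq_of_mul_eq_one_right hginv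
      have e1 : U * (g * X * g⁻¹) * U⁻¹ = g * ((g⁻¹ * U * g) * X * (g⁻¹ * U * g)⁻¹) * g⁻¹ := by group
      have e2 : U * U * (g * X * g⁻¹) * (U * U)⁻¹ =
          g * ((g⁻¹ * U * g) * ((g⁻¹ * U * g) * X * (g⁻¹ * U * g)⁻¹) * (g⁻¹ * U * g)⁻¹) * g⁻¹ := by group
      have hN' := hX.2
      simp only [Nm] at hN' ⊢
      rw [e1, e2]
      rcases hgu with h | h
      · have hcg : σ (g⁻¹ * U * g) = σ U := by
          conv_lhs => rw [hgi]
          conv_lhs => arg 2; arg 2; rw [← hgi]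
          rw [map_mul, map_mul, map_inv, hU, h]
        rw [conj_congr hc hcg, conj_congr hc hcg]
        calc _ = g * (X * (U * X * U⁻¹) * (U * U * X * (U * U)⁻¹)) * g⁻¹ := by group
          _ = 1 := by rw [hN']; group
      · have hcg : σ (g⁻¹ * U * g) = σ (U * U) := by
          conv_lhs => rw [hgi]
          conv_lhs => arg 2; arg 2; rw [← hgi]
          rw [map_mul, map_mul, map_inv, hU, h, map_mul, hU]
        rw [conj_congr hc hcg, conj_congr hc hcg]
        have e3 : U * U * (U * U * X * (U * U)⁻¹) * (U * U)⁻¹ = U * X * U⁻¹ := by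
          calc _ = U * U * U * (U * X * U⁻¹) * (U * U * U)⁻¹ := by group
            _ = _ := hU3 _
        rw [e3]
        calc _ = g * (X * ((U * U * X * (U * U)⁻¹) * (U * X * U⁻¹))) * g⁻¹ := by group
          _ = g * (X * (U * X * U⁻¹) * (U * U * X * (U * U)⁻¹)) * g⁻¹ := by
            rw [(hVc (hin2 hX.1) (hin hX.1)).eq]; group
          _ = 1 := by rw [hN']; group
    rw [SetLike.mem_coe, Subgroup.mem_normalizer_iff]
    intro X
    refine ⟨key X, fun h => ?_⟩
    have := key _ h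
    rwa [show g * (g * X * g⁻¹) * g⁻¹ = (g * g) * X * (g * g)⁻¹ by group, hginv, one_mul, inv_one,
      mul_one] at this
  let L : Subgroup Γ :=
    { carrier := {X | ∃ w ∈ W, ∃ t ∈ T, X = w * t}
      one_mem' := ⟨1, W.one_mem, 1, T.one_mem, by simp⟩
      mul_mem' := by
        rintro _ _ ⟨w, hw, t, ht, rfl⟩ ⟨w', hw', t', ht', rfl⟩
        exact ⟨w * (t * w' * t⁻¹), mul_mem hw ((Subgroup.mem_normalizer_iff.1 (hnW ht) w').1 hw'),
          t * t', mul_mem ht ht', by group⟩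
      inv_mem' := by
        rintro _ ⟨w, hw, t, ht, rfl⟩
        exact ⟨t⁻¹ * w⁻¹ * t⁻¹⁻¹,
          (Subgroup.mem_normalizer_iff.1 (hnW (inv_mem ht)) w⁻¹).1 (inv_mem hw), t⁻¹, inv_mem ht,
          by group⟩ }
  have hLker : ∀ X ∈ L, σ X = 1 → X = 1 := by
    rintro _ ⟨w, hw, t, ht, rfl⟩ h
    rw [map_mul] at h
    have ht1 : t = 1 := hTker t ht (by rw [eq_inv_of_mul_eq_one_right h]; exact inv_mem hw.1)
    subst ht1
    rw [mul_one]
    exact hWker w hw (by simpa using h)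
  -- the image of `L` is a Sylow subgroup
  have hge : 2 ^ N ≤ Nat.card (L.map σ) := by
    rw [← hcard, show 8 * m = Nat.card (Fin 4 × Fin 2 × Fin m) by simp [← mul_assoc],
      ← Nat.card_prod]
    refine Nat.card_le_card_of_injective (fun p : V × Fin 4 × Fin 2 × Fin m =>
      (⟨(p.1 : G) * ((a * b) ^ (p.2.1 : ℕ) * a ^ (p.2.2.1 : ℕ) * c ^ (p.2.2.2 : ℕ)), ?_⟩ : L.map σ)) ?_
    · obtain ⟨X, hX, hXv⟩ := hWsurj _ p.1.2
      refine ⟨_, ⟨X, hX, R ^ (p.2.1 : ℕ) * A ^ (p.2.2.1 : ℕ) * C ^ (p.2.2.2 : ℕ), ?_, rfl⟩, ?_⟩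
      · have hmA : A ∈ T := Subgroup.subset_closure (by simp)
        have hmB : B ∈ T := Subgroup.subset_closure (by simp)
        have hmC : C ∈ T := Subgroup.subset_closure (by simp)
        exact mul_mem (mul_mem (pow_mem (mul_mem hmA hmB) _) (pow_mem hmA _)) (pow_mem hmC _)
      · simp only [map_mul, map_pow, hmapR, hA, hC, hXv]
    · rintro ⟨⟨v, hv⟩, p⟩ ⟨⟨v', hv'⟩, p'⟩ h
      have h' := congrArg Subtype.val h
      simp only at h'
      set f : Fin 4 × Fin 2 × Fin m → Γ := fun q => R ^ (q.1 : ℕ) * A ^ (q.2.1 : ℕ) * C ^ (q.2.2 : ℕ)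
      have hf : ∀ q, f q ∈ T := fun q => by
        have hmA : A ∈ T := Subgroup.subset_closure (by simp)
        have hmB : B ∈ T := Subgroup.subset_closure (by simp)
        have hmC : C ∈ T := Subgroup.subset_closure (by simp)
        exact mul_mem (mul_mem (pow_mem (mul_mem hmA hmB) _) (pow_mem hmA _)) (pow_mem hmC _)
      have hσf : ∀ q, σ (f q) = (a * b) ^ (q.1 : ℕ) * a ^ (q.2.1 : ℕ) * c ^ (q.2.2 : ℕ) := fun q => by
        simp only [f, map_mul, map_pow, hmapR, hA, hC]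
      rw [← hσf, ← hσf] at h'
      have heq : f p = f p' := by
        rw [← mul_inv_eq_one]
        refine hTker _ (mul_mem (hf p) (inv_mem (hf p'))) ?_
        rw [map_mul, map_inv, show σ (f p) * (σ (f p'))⁻¹ = v⁻¹ * v' by
          rw [mul_inv_eq_iff_eq_mul, mul_assoc, eq_inv_mul_iff_mul_eq]; exact h']
        exact mul_mem (inv_mem hv) hv'
      have hpp : p = p' := hinj (by simp only; rw [← hσf, ← hσf, heq])
      subst hpp
      simp [mul_right_cancel h']
  have hLp : IsPGroup 2 (L.map σ) := by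
    have hT4 : ∀ t ∈ T, t ^ 4 = 1 := by
      intro t ht
      obtain ⟨i, j, k, rfl⟩ := hform t ht
      have hC4 : C ^ 4 = 1 := by
        have h2 := hall c hc2 C hC
        rw [show (4 : ℕ) = 2 * 2 by rfl, pow_mul, pow_two C, h2, one_pow]
      rw [((hRC.pow_pow i k).mul_left (hAC.pow_pow j k)).mul_pow, ← pow_mul C, mul_comm (k : ℕ),
        pow_mul, hC4, one_pow, mul_one]
      rcases Fin.exists_fin_two.1 ⟨j, rfl⟩ with h | h <;> rw [h]
      · rw [Fin.val_zero, pow_zero, mul_one, ← pow_mul, mul_comm, pow_mul, hR4, one_pow]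
      · rw [Fin.val_one, pow_one]
        have : R ^ (i : ℕ) * A * (R ^ (i : ℕ) * A) = 1 := by
          rw [mul_assoc, ← mul_assoc A, hAR, mul_assoc, hA2, mul_one, ← pow_add,
            show (i : ℕ) + 3 * i = 4 * i by ring, pow_mul, hR4, one_pow]
        calc (R ^ (i : ℕ) * A) ^ 4 = (R ^ (i : ℕ) * A * (R ^ (i : ℕ) * A)) ^ 2 := by
              simp only [pow_succ, pow_zero, one_mul, mul_assoc]
          _ = 1 := by rw [this, one_pow]
    rintro ⟨g, X, ⟨w, hw, t, ht, rfl⟩, rfl⟩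
    refine ⟨3, Subtype.ext ?_⟩
    have hpow : ∀ n : ℕ, ∃ w' ∈ W, (w * t) ^ n = w' * t ^ n := by
      intro n
      induction n with
      | zero => exact ⟨1, W.one_mem, by simp⟩
      | succ n ih =>
        obtain ⟨w', hw', e⟩ := ih
        refine ⟨w' * (t ^ n * w * (t ^ n)⁻¹),
          mul_mem hw' ((Subgroup.mem_normalizer_iff.1 (hnW (pow_mem ht n)) w).1 hw), ?_⟩
        rw [pow_succ, e, pow_succ]; group
    obtain ⟨w', hw', e⟩ := hpow 4
    rw [hT4 t ht, mul_one] at e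
    show (σ (w * t)) ^ 2 ^ 3 = 1
    rw [← map_pow, show (2 : ℕ) ^ 3 = 4 * 2 by rfl, pow_mul, e, pow_two, hall _ (hV _ hw'.1) w' rfl,
      map_one]
  obtain ⟨k, hk⟩ := IsPGroup.iff_card.1 hLp
  have hkN : k = N := by
    have h1 : 2 ^ k ∣ Nat.card G := hk ▸ Subgroup.card_subgroup_dvd_card _
    have h2 := (Nat.Prime.pow_dvd_iff_le_factorization Nat.prime_two Nat.card_pos.ne').1 h1
    rw [hN] at h2
    have h3 : N ≤ k := (Nat.pow_le_pow_iff_right one_lt_two).1 (hk ▸ hge)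
    omega
  let S : Sylow 2 G := Sylow.ofCard (L.map σ) (by rw [hk, hkN, hN])
  obtain ⟨g, hg⟩ := MulAction.exists_smul_eq G (P.mapSurjective hσ) S
  obtain ⟨T0, rfl⟩ := hσ g
  have hP : ∀ x ∈ (P : Subgroup Γ), ∃ l ∈ L, ∃ z, σ z = 1 ∧ T0 * x * T0⁻¹ = l * z := by
    intro x hx
    have : σ (T0 * x * T0⁻¹) ∈ (S : Subgroup G) := by
      rw [← hg, Sylow.coe_subgroup_smul, Subgroup.mem_pointwise_smul_iff_inv_smul_mem,
        Sylow.coe_mapSurjective]
      exact ⟨x, hx, by simp [MulAut.smul_def, mul_assoc]⟩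
    obtain ⟨l, hl, e⟩ := (this : σ (T0 * x * T0⁻¹) ∈ L.map σ)
    obtain ⟨z, hz, e'⟩ := exists_central hc e
    exact ⟨l, hl, z, hz, e'⟩
  rw [eq_bot_iff]
  rintro x ⟨hx, hxk⟩
  rw [Subgroup.mem_bot]
  have hsub : ⁅(P : Subgroup Γ), (P : Subgroup Γ)⁆ ≤ L.comap (MulAut.conj T0).toMonoidHom := by
    rw [Subgroup.commutator_le]
    intro p hp q hq
    obtain ⟨l, hl, z, hz, el⟩ := hP p hp
    obtain ⟨l', hl', z', hz', el'⟩ := hP q hq
    rw [Subgroup.mem_comap, map_commutatorElement]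
    simp only [MulEquiv.coe_toMonoidHom, MulAut.conj_apply, el, el']
    rw [comm_congr hc (X := l * z) (X' := l) (Y := l' * z') (Y' := l') (by rw [map_mul, hz, mul_one])
      (by rw [map_mul, hz', mul_one])]
    exact mul_mem (mul_mem (mul_mem hl hl') (inv_mem hl)) (inv_mem hl')
  have h1 : T0 * x * T0⁻¹ = x := by rw [(central hc hxk T0).eq, mul_inv_cancel_right]
  have := hsub hx
  rw [Subgroup.mem_comap] at this
  simp only [MulEquiv.coe_toMonoidHom, MulAut.conj_apply, h1] at this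
  exact hLker x this hxk

omit hc hσ hex hall

/-- The criterion at the prime three: a Sylow subgroup generated by two elements of order three
with central commutator, inverted suitably. -/
theorem three_criterion [Finite Γ] [Finite G] (hc : σ.ker ≤ Subgroup.center Γ)
    (hσ : Function.Surjective σ) {x y r : G} (hx : x ^ 3 = 1) (hy : y ^ 3 = 1)
    (hwx : Commute ⁅x, y⁆ x) (hwy : Commute ⁅x, y⁆ y) (hrx : r * x * r⁻¹ = x⁻¹)
    (hry : ⁅x, y⁆ = 1 ∧ r * y * r⁻¹ = y ∨ ⁅x, y⁆ ≠ 1 ∧ r * y * r⁻¹ = y⁻¹)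
    {N e : ℕ} (he : ⁅x, y⁆ ^ e = 1) (he0 : 0 < e)
    (hinj : Function.Injective fun p : Fin 3 × Fin 3 × Fin e =>
      x ^ (p.1 : ℕ) * y ^ (p.2.1 : ℕ) * ⁅x, y⁆ ^ (p.2.2 : ℕ))
    (hcard : 9 * e = 3 ^ N) (hN : (Nat.card G).factorization 3 = N)
    (P : Sylow 3 Γ) : ⁅(P : Subgroup Γ), (P : Subgroup Γ)⁆ ⊓ σ.ker = ⊥ := by
  classical
  haveI : Fact (Nat.Prime 3) := ⟨Nat.prime_three⟩
  set w := ⁅x, y⁆ with hwdef
  obtain ⟨X, hX⟩ := hσ x
  obtain ⟨Y, hY⟩ := hσ y
  obtain ⟨R, hR⟩ := hσ r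
  set W := ⁅X, Y⁆ with hWdef
  have hW : σ W = w := by rw [map_commutatorElement, hX, hY]
  have hconjR : ∀ A B : Γ, R * ⁅A, B⁆ * R⁻¹ = ⁅R * A * R⁻¹, R * B * R⁻¹⁆ := fun A B =>
    map_commutatorElement (MulAut.conj R).toMonoidHom A B
  -- powers in the first slot
  have hpow : ∀ (A B : Γ), Commute ⁅A, B⁆ A → ∀ n : ℕ, ⁅A ^ n, B⁆ = ⁅A, B⁆ ^ n := by
    intro A B hAB n
    induction n with
    | zero => simp
    | succ n ih =>
      rw [pow_succ, pow_succ', show ⁅A ^ n * A, B⁆ = A ^ n * ⁅A, B⁆ * (A ^ n)⁻¹ * ⁅A ^ n, B⁆ by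
        rw [commutatorElement_def, commutatorElement_def, commutatorElement_def]; group,
        ← (hAB.pow_right n).eq, mul_inv_cancel_right, ih]
  have hcub : ∀ {A : Γ} (B : Γ), σ A ^ 3 = 1 → Commute ⁅A, B⁆ A → ⁅A, B⁆ ^ 3 = 1 := fun {A} B hA h => by
    rw [← hpow A B h 3, commutatorElement_eq_one_iff_mul_comm]
    exact (central hc (by rw [map_pow]; exact hA) B).symm.eq
  have hW' : σ (R * W * R⁻¹) = σ ⁅R * X * R⁻¹, R * Y * R⁻¹⁆ := by rw [hWdef, hconjR]
  have hRX : σ (R * X * R⁻¹) = σ X⁻¹ := by rw [map_mul, map_mul, map_inv, map_inv, hR, hX, hrx]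
  -- the commutator with `W` vanishes
  have key : ∀ A : Γ, σ A ^ 3 = 1 → Commute w (σ A) → σ (R * A * R⁻¹) = σ A⁻¹ →
      w ≠ 1 → r * y * r⁻¹ = y⁻¹ → Commute W A := by
    intro A hA hwA hRA hne hry
    set c := ⁅A, W⁆ with hcdef
    have hc1 : σ c = 1 := by
      rw [hcdef, map_commutatorElement, hW, commutatorElement_eq_one_iff_mul_comm]; exact hwA.symm.eq
    have hcc : ∀ g, Commute g c := central hc hc1
    have hc3 : c ^ 3 = 1 := hcub W hA (hcc A).symm
    have hrw : σ (R * W * R⁻¹) = σ W := by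
      rw [map_mul, map_mul, map_inv, hR, hW, hwdef,
        show r * ⁅x, y⁆ * r⁻¹ = ⁅r * x * r⁻¹, r * y * r⁻¹⁆ from map_commutatorElement (MulAut.conj r).toMonoidHom x y,
        hrx, hry]
      calc ⁅x⁻¹, y⁻¹⁆ = (y * x)⁻¹ * w * (y * x) := by
            rw [hwdef, commutatorElement_def, commutatorElement_def]; group
        _ = (y * x)⁻¹ * (w * (y * x)) := by group
        _ = w := by rw [(hwy.mul_right hwx).eq]; group
    have e1 : R * c * R⁻¹ = c := by rw [(hcc R).eq, mul_inv_cancel_right]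
    rw [hcdef, hconjR, comm_congr hc hRA hrw] at e1
    have e2 : ⁅A⁻¹, W⁆ = c⁻¹ := by
      calc ⁅A⁻¹, W⁆ = A⁻¹ * c⁻¹ * A := by
            rw [hcdef, commutatorElement_def, commutatorElement_def]; group
        _ = c⁻¹ := by rw [(hcc A⁻¹).inv_right.eq]; group
    rw [e2] at e1
    have hc2 : c ^ 2 = 1 := by rw [pow_two]; exact inv_eq_iff_mul_eq_one.1 e1
    have : c = 1 := by
      calc c = c ^ 3 * (c ^ 2)⁻¹ := by group
        _ = 1 := by rw [hc3, hc2, inv_one, mul_one]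
    exact (commutatorElement_eq_one_iff_mul_comm.1 this).symm
  have hXW : Commute W X ∧ Commute W Y ∧ (w = 1 → W = 1) := by
    rcases hry with ⟨hw1, hy'⟩ | ⟨hw1, hy'⟩
    · have hcW : ∀ g, Commute g W := central hc (by rw [hW, hw1])
      refine ⟨(hcW X).symm, (hcW Y).symm, fun _ => ?_⟩
      have h3 : W ^ 3 = 1 := hcub Y (by rw [hX, hx]) (hcW X).symm
      have e1 : R * W * R⁻¹ = W := by rw [(hcW R).eq, mul_inv_cancel_right]
      rw [hWdef, hconjR, comm_congr hc hRX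
        (show σ (R * Y * R⁻¹) = σ Y by rw [map_mul, map_mul, map_inv, hR, hY, hy'])] at e1
      have e2 : ⁅X⁻¹, Y⁆ = W⁻¹ := by
        calc ⁅X⁻¹, Y⁆ = X⁻¹ * W⁻¹ * X := by
              rw [hWdef, commutatorElement_def, commutatorElement_def]; group
          _ = W⁻¹ := by rw [(hcW X⁻¹).inv_right.eq]; group
      rw [e2] at e1
      have h2 : W ^ 2 = 1 := by rw [pow_two]; exact inv_eq_iff_mul_eq_one.1 e1
      calc W = W ^ 3 * (W ^ 2)⁻¹ := by group
        _ = 1 := by rw [h3, h2, inv_one, mul_one]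
    · exact ⟨key X (by rw [hX, hx]) (hX ▸ hwx) hRX hw1 hy',
        key Y (by rw [hY, hy]) (hY ▸ hwy)
          (by rw [map_mul, map_mul, map_inv, map_inv, hR, hY, hy']) hw1 hy', fun h => absurd h hw1⟩
  obtain ⟨hWX, hWY, hW1⟩ := hXW
  have hW3 : W ^ 3 = 1 := hcub Y (by rw [hX, hx]) hWX
  have hWdet : ∀ n : ℕ, σ (W ^ n) = 1 → W ^ n = 1 := by
    intro n h
    by_cases hw1 : w = 1
    · rw [hW1 hw1, one_pow]
    · rw [map_pow, hW] at h
      have ho : orderOf w = 3 := orderOf_eq_prime (by rw [← hW, ← map_pow, hW3, map_one]) hw1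
      obtain ⟨k, rfl⟩ := ho ▸ orderOf_dvd_of_pow_eq_one h
      rw [pow_mul, hW3, one_pow]
  -- collection
  have hWi : W⁻¹ = W ^ 2 := inv_eq_of_mul_eq_one_right (by rw [← pow_succ']; exact hW3)
  have hyx : ∀ i j : ℕ, Y ^ j * X ^ i = X ^ i * Y ^ j * W ^ (2 * i * j) := by
    have h1 : Y * X = X * Y * W ^ 2 := by
      rw [← hWi]
      calc Y * X = W⁻¹ * (X * Y) := by rw [hWdef, commutatorElement_def]; group
        _ = X * Y * W⁻¹ := ((hWX.mul_right hWY).inv_left).eq
    have h2 : ∀ i : ℕ, Y * X ^ i = X ^ i * Y * W ^ (2 * i) := by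
      intro i
      induction i with
      | zero => simp
      | succ i ih =>
        calc Y * X ^ (i + 1) = Y * X ^ i * X := by rw [pow_succ, mul_assoc]
          _ = X ^ i * Y * (W ^ (2 * i) * X) := by rw [ih, mul_assoc]
          _ = X ^ i * (Y * X) * W ^ (2 * i) := by rw [(hWX.pow_left _).eq]; group
          _ = X ^ i * (X * Y * W ^ 2) * W ^ (2 * i) := by rw [h1]
          _ = X ^ (i + 1) * Y * (W ^ 2 * W ^ (2 * i)) := by rw [pow_succ]; group
          _ = _ := by rw [← pow_add, show 2 + 2 * i = 2 * (i + 1) by ring]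
    intro i j
    induction j with
    | zero => simp
    | succ j ih =>
      calc Y ^ (j + 1) * X ^ i = Y * (Y ^ j * X ^ i) := by rw [pow_succ', mul_assoc]
        _ = Y * X ^ i * (Y ^ j * W ^ (2 * i * j)) := by rw [ih]; group
        _ = X ^ i * Y * (W ^ (2 * i) * Y ^ j) * W ^ (2 * i * j) := by rw [h2]; group
        _ = X ^ i * (Y * Y ^ j) * (W ^ (2 * i) * W ^ (2 * i * j)) := by rw [(hWY.pow_pow _ _).eq]; group
        _ = _ := by rw [← pow_succ', ← pow_add, show 2 * i + 2 * i * j = 2 * i * (j + 1) by ring]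
  have hprod : ∀ i j i' j' : ℕ, X ^ i * Y ^ j * (X ^ i' * Y ^ j') =
      X ^ (i + i') * Y ^ (j + j') * W ^ (2 * i' * j) := by
    intro i j i' j'
    calc _ = X ^ i * (Y ^ j * X ^ i') * Y ^ j' := by group
      _ = X ^ i * X ^ i' * Y ^ j * (W ^ (2 * i' * j) * Y ^ j') := by rw [hyx]; group
      _ = X ^ i * X ^ i' * (Y ^ j * Y ^ j') * W ^ (2 * i' * j) := by rw [(hWY.pow_pow _ _).eq]; group
      _ = _ := by rw [← pow_add, ← pow_add]
  -- the Sylow subgroup downstairs
  set S0 := Subgroup.closure ({x, y} : Set G)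
  have hσyx : ∀ i j : ℕ, y ^ j * x ^ i = x ^ i * y ^ j * w ^ (2 * i * j) := fun i j => by
    have h := congrArg σ (hyx i j)
    simpa only [map_mul, map_pow, hX, hY, hW] using h
  have hform : ∀ g ∈ S0, ∃ i j k : ℕ, g = x ^ i * y ^ j * w ^ k := by
    intro g hg
    have hgen : ∀ i j k : ℕ, (∃ i' j' k', x * (x ^ i * y ^ j * w ^ k) = x ^ i' * y ^ j' * w ^ k') ∧
        ∃ i' j' k', y * (x ^ i * y ^ j * w ^ k) = x ^ i' * y ^ j' * w ^ k' := fun i j k => by
      refine ⟨⟨i + 1, j, k, by rw [pow_succ']; group⟩, i, j + 1, 2 * i * 1 + k, ?_⟩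
      calc y * (x ^ i * y ^ j * w ^ k) = y ^ 1 * x ^ i * (y ^ j * w ^ k) := by rw [pow_one]; group
        _ = x ^ i * y * (w ^ (2 * i * 1) * y ^ j) * w ^ k := by rw [hσyx, pow_one]; group
        _ = x ^ i * (y * y ^ j) * (w ^ (2 * i * 1) * w ^ k) := by rw [(hwy.pow_pow _ _).eq]; group
        _ = _ := by rw [← pow_succ', ← pow_add]
    induction hg using Subgroup.closure_induction_left with
    | one => exact ⟨0, 0, 0, by simp⟩
    | mul_left t ht z _ ih =>
      obtain ⟨i, j, k, rfl⟩ := ih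
      rcases ht with rfl | rfl
      exacts [(hgen i j k).1, (hgen i j k).2]
    | inv_mul_cancel t ht z _ ih =>
      obtain ⟨i, j, k, rfl⟩ := ih
      have hinv : t⁻¹ = t * t := inv_eq_of_mul_eq_one_right (by
        rcases ht with rfl | rfl
        · rw [← mul_assoc, ← pow_three', hx]
        · rw [← mul_assoc, ← pow_three', hy])
      rw [hinv, mul_assoc]
      rcases ht with rfl | rfl
      · obtain ⟨i', j', k', e'⟩ := (hgen i j k).1
        rw [e']; exact (hgen i' j' k').1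
      · obtain ⟨i', j', k', e'⟩ := (hgen i j k).2
        rw [e']; exact (hgen i' j' k').2
  have hmemS : ∀ i j k : ℕ, x ^ i * y ^ j * w ^ k ∈ S0 := fun i j k => by
    have h1 : x ∈ S0 := Subgroup.subset_closure (by simp)
    have h2 : y ∈ S0 := Subgroup.subset_closure (by simp)
    refine mul_mem (mul_mem (pow_mem h1 _) (pow_mem h2 _)) (pow_mem ?_ _)
    rw [hwdef, commutatorElement_def]
    exact mul_mem (mul_mem (mul_mem h1 h2) (inv_mem h1)) (inv_mem h2)
  have hS0 : Nat.card S0 = 3 ^ N := by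
    rw [← hcard, show 9 * e = Nat.card (Fin 3 × Fin 3 × Fin e) by simp [← mul_assoc]]
    refine (Nat.card_eq_of_bijective (fun p : Fin 3 × Fin 3 × Fin e =>
      (⟨_, hmemS p.1 p.2.1 p.2.2⟩ : S0)) ⟨fun p q h => hinj (congrArg Subtype.val h), ?_⟩).symm
    rintro ⟨g, hg⟩
    obtain ⟨i, j, k, rfl⟩ := hform g hg
    refine ⟨(⟨i % 3, Nat.mod_lt _ (by norm_num)⟩, ⟨j % 3, Nat.mod_lt _ (by norm_num)⟩,
      ⟨k % e, Nat.mod_lt _ he0⟩), Subtype.ext ?_⟩
    simp only [← pow_eq_pow_mod i hx, ← pow_eq_pow_mod j hy, ← pow_eq_pow_mod k he]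
  let S : Sylow 3 G := Sylow.ofCard S0 (by rw [hS0, hN])
  obtain ⟨g, hg⟩ := MulAction.exists_smul_eq G (P.mapSurjective hσ) S
  obtain ⟨T0, rfl⟩ := hσ g
  have hP : ∀ a ∈ (P : Subgroup Γ), ∃ i j k : ℕ, ∃ z, σ z = 1 ∧
      T0 * a * T0⁻¹ = X ^ i * Y ^ j * W ^ k * z := by
    intro a ha
    have : σ (T0 * a * T0⁻¹) ∈ (S : Subgroup G) := by
      rw [← hg, Sylow.coe_subgroup_smul, Subgroup.mem_pointwise_smul_iff_inv_smul_mem,
        Sylow.coe_mapSurjective]
      exact ⟨a, ha, by simp [MulAut.smul_def, mul_assoc]⟩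
    obtain ⟨i, j, k, e'⟩ := hform _ this
    obtain ⟨z, hz, e''⟩ := exists_central hc
      (show σ (X ^ i * Y ^ j * W ^ k) = σ (T0 * a * T0⁻¹) by
        rw [e', map_mul, map_mul, map_pow, map_pow, map_pow, hX, hY, hW])
    exact ⟨i, j, k, z, hz, e''⟩
  rw [eq_bot_iff]
  rintro a ⟨ha, hak⟩
  rw [Subgroup.mem_bot]
  have hsub : ⁅(P : Subgroup Γ), (P : Subgroup Γ)⁆ ≤
      (Subgroup.zpowers W).comap (MulAut.conj T0).toMonoidHom := by
    rw [Subgroup.commutator_le]
    intro p hp q hq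
    obtain ⟨i, j, k, z, hz, el⟩ := hP p hp
    obtain ⟨i', j', k', z', hz', el'⟩ := hP q hq
    rw [Subgroup.mem_comap, map_commutatorElement]
    simp only [MulEquiv.coe_toMonoidHom, MulAut.conj_apply, el, el']
    rw [comm_congr hc (X := X ^ i * Y ^ j * W ^ k * z) (X' := X ^ i * Y ^ j * W ^ k)
      (Y := X ^ i' * Y ^ j' * W ^ k' * z') (Y' := X ^ i' * Y ^ j' * W ^ k') (by rw [map_mul, hz, mul_one])
      (by rw [map_mul, hz', mul_one])]
    set F := X ^ i * Y ^ j
    set F' := X ^ i' * Y ^ j'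
    have hWF : Commute W F := (hWX.pow_right i).mul_right (hWY.pow_right j)
    have hWF' : Commute W F' := (hWX.pow_right i').mul_right (hWY.pow_right j')
    have e1 : ∀ n, F * F' * W ^ n = F' * F * W ^ (n + 2 * i' * j) * (W ^ (2 * i * j'))⁻¹ := fun n => by
      rw [hprod i j i' j', hprod i' j' i j, add_comm i' i, add_comm j' j]
      simp only [pow_add]
      group
    have h2 : ⁅F * W ^ k, F' * W ^ k'⁆ = ⁅F, F'⁆ := by
      calc ⁅F * W ^ k, F' * W ^ k'⁆ = F * (W ^ k * F') * (W ^ k' * (W ^ k)⁻¹) * F⁻¹ * (W ^ k')⁻¹ * F'⁻¹ := by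
            rw [commutatorElement_def]; group
        _ = F * (F' * W ^ k) * (W ^ k' * (W ^ k)⁻¹ * F⁻¹) * (W ^ k')⁻¹ * F'⁻¹ := by
            rw [(hWF'.pow_left k).eq]; group
        _ = F * (F' * W ^ k) * (F⁻¹ * (W ^ k' * (W ^ k)⁻¹)) * (W ^ k')⁻¹ * F'⁻¹ := by
            rw [((hWF.inv_right.pow_left k').mul_left (hWF.inv_right.pow_left k).inv_left).eq]
        _ = F * F' * (W ^ k * F⁻¹) * ((W ^ k' * (W ^ k)⁻¹) * (W ^ k')⁻¹) * F'⁻¹ := by group
        _ = F * F' * (F⁻¹ * W ^ k) * (((W ^ k)⁻¹ * W ^ k') * (W ^ k')⁻¹) * F'⁻¹ := by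
            rw [(hWF.inv_right.pow_left k).eq, ((Commute.refl W).pow_pow k' k).inv_right.eq]
        _ = ⁅F, F'⁆ := by rw [commutatorElement_def]; group
    rw [h2, commutatorElement_def]
    have h3 := e1 0
    rw [pow_zero, mul_one, zero_add] at h3
    have hWFF : Commute W (F' * F) := hWF'.mul_right hWF
    rw [show F * F' * F⁻¹ * F'⁻¹ = F * F' * (F' * F)⁻¹ by group, h3, mul_assoc (F' * F),
      show (F' * F) * (W ^ (2 * i' * j) * (W ^ (2 * i * j'))⁻¹) =
        (W ^ (2 * i' * j) * (W ^ (2 * i * j'))⁻¹) * (F' * F) from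
        ((hWFF.pow_left _).mul_left (hWFF.pow_left _).inv_left).eq.symm, mul_inv_cancel_right]
    exact mul_mem (pow_mem (Subgroup.mem_zpowers W) _) (inv_mem (pow_mem (Subgroup.mem_zpowers W) _))
  have h1 : T0 * a * T0⁻¹ = a := by rw [(central hc hak T0).eq, mul_inv_cancel_right]
  have := hsub ha
  rw [Subgroup.mem_comap] at this
  simp only [MulEquiv.coe_toMonoidHom, MulAut.conj_apply, h1] at this
  obtain ⟨n, rfl⟩ := (Submonoid.mem_powers_iff _ _).1 (mem_powers_iff_mem_zpowers.2 this)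
  exact hWdet n hak

/-- Sylow subgroups over a cyclic Sylow subgroup are abelian. -/
theorem cyclic_criterion [Finite Γ] [Finite G] (hc : σ.ker ≤ Subgroup.center Γ)
    (hσ : Function.Surjective σ) {p : ℕ} [hp : Fact p.Prime] (h : ¬ p ^ 2 ∣ Nat.card G) (P : Sylow p Γ) :
    ⁅(P : Subgroup Γ), (P : Subgroup Γ)⁆ ⊓ σ.ker = ⊥ := by
  have hQ : IsCyclic ((P.mapSurjective hσ : Sylow p G) : Subgroup G) := by
    obtain ⟨k, hk⟩ := IsPGroup.iff_card.1 (P.mapSurjective hσ).isPGroup'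
    rcases k with _ | _ | k
    · have := (Nat.card_eq_one_iff_unique.1 (by rw [hk, pow_zero])).1
      exact isCyclic_of_subsingleton
    · exact isCyclic_of_prime_card (by rw [hk, pow_one])
    · exact absurd ((pow_dvd_pow p (by omega : 2 ≤ k + 1 + 1)).trans
        (hk ▸ Subgroup.card_subgroup_dvd_card _)) h
  let f := σ.comp (P : Subgroup Γ).subtype
  have hrange : f.range = (P.mapSurjective hσ : Subgroup G) := by
    rw [Sylow.coe_mapSurjective, MonoidHom.range_eq_map, ← Subgroup.map_map,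
      ← MonoidHom.range_eq_map, Subgroup.range_subtype]
  rw [← hrange] at hQ
  have hker : f.rangeRestrict.ker ≤ Subgroup.center (P : Subgroup Γ) := by
    rw [MonoidHom.ker_rangeRestrict]
    intro a ha
    rw [Subgroup.mem_center_iff]
    intro b
    exact Subtype.ext (Subgroup.mem_center_iff.1 (hc (MonoidHom.mem_ker.2 ha)) b.1)
  have hcm := MonoidHom.isMulCommutative_of_isCyclic_of_ker_le_center f.rangeRestrict hker
  have : ⁅(P : Subgroup Γ), (P : Subgroup Γ)⁆ = ⊥ := by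
    rw [eq_bot_iff, Subgroup.commutator_le]
    intro a ha b hb
    rw [Subgroup.mem_bot, commutatorElement_eq_one_iff_mul_comm]
    exact congrArg Subtype.val (hcm.is_comm.comm ⟨a, ha⟩ ⟨b, hb⟩)
  rw [this, bot_inf_eq]

/-- The multiplier is trivial if the criteria hold at every prime; at the prime two only kernels of
exponent two need be considered. -/
theorem trivial_of_criteria {G : Type} [Group G] [Finite G]
    (h2 : ∀ (Γ : Type) [Group Γ] [Finite Γ] (σ : Γ →* G), σ.ker ≤ Subgroup.center Γ →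
      Function.Surjective σ → (∀ z, σ z = 1 → z * z = 1) → ∀ P : Sylow 2 Γ,
      ⁅(P : Subgroup Γ), (P : Subgroup Γ)⁆ ⊓ σ.ker = ⊥)
    (hodd : ∀ (p : ℕ) [Fact p.Prime], p ≠ 2 → p ∣ Nat.card G → ∀ (Γ : Type) [Group Γ] [Finite Γ]
      (σ : Γ →* G), σ.ker ≤ Subgroup.center Γ → Function.Surjective σ → ∀ P : Sylow p Γ,
      ⁅(P : Subgroup Γ), (P : Subgroup Γ)⁆ ⊓ σ.ker = ⊥) :
    Cfsg.HasCyclicSchurMultiplier G 1 := by
  classical
  refine GStructB.StemExt.hasCyclicSchurMultiplier_one fun Γ _ _ σ hs => ?_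
  obtain ⟨hsur, hc, hd⟩ := hs
  by_contra hne
  have h1 : Nat.card σ.ker ≠ 1 := fun h => hne (Subgroup.eq_bot_of_card_eq _ h)
  obtain ⟨p, hp, hpd⟩ := Nat.exists_prime_and_dvd h1
  haveI := Fact.mk hp
  by_cases hp2 : p = 2
  · subst hp2
    let N : Subgroup Γ :=
      { carrier := {n | ∃ k, σ k = 1 ∧ n = k * k}
        one_mem' := ⟨1, map_one σ, by simp⟩
        mul_mem' := by
          rintro _ _ ⟨k, hk, rfl⟩ ⟨l, hl, rfl⟩
          exact ⟨k * l, by rw [map_mul, hk, hl, one_mul], (Commute.mul_mul_mul_comm (central hc hk l) k l).symm⟩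
        inv_mem' := by
          rintro _ ⟨k, hk, rfl⟩
          exact ⟨k⁻¹, by rw [map_inv, hk, inv_one], by group⟩ }
    haveI : N.Normal := ⟨by
      rintro _ ⟨k, hk, rfl⟩ g
      refine ⟨k, hk, ?_⟩
      rw [((central hc hk g).mul_right (central hc hk g)).eq, mul_inv_cancel_right]⟩
    have hNker : N ≤ σ.ker := by
      rintro _ ⟨k, hk, rfl⟩
      rw [MonoidHom.mem_ker, map_mul, hk, one_mul]
    let τ : Γ ⧸ N →* G := QuotientGroup.lift N σ hNker
    have hτ : Function.Surjective τ := fun g => by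
      obtain ⟨x, rfl⟩ := hsur g; exact ⟨(x : Γ ⧸ N), rfl⟩
    have hmapker : ∀ q : Γ ⧸ N, τ q = 1 → ∃ k, σ k = 1 ∧ (k : Γ ⧸ N) = q := by
      intro q hq
      obtain ⟨k, rfl⟩ := QuotientGroup.mk_surjective q
      exact ⟨k, hq, rfl⟩
    have hτc : τ.ker ≤ Subgroup.center (Γ ⧸ N) := by
      intro q hq
      obtain ⟨k, hk, rfl⟩ := hmapker q hq
      rw [Subgroup.mem_center_iff]
      intro g
      obtain ⟨g, rfl⟩ := QuotientGroup.mk_surjective g
      rw [← QuotientGroup.mk_mul, ← QuotientGroup.mk_mul, (central hc hk g).eq]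
    have hτd : τ.ker ≤ commutator (Γ ⧸ N) := by
      intro q hq
      obtain ⟨k, hk, rfl⟩ := hmapker q hq
      have h := Subgroup.mem_map_of_mem (QuotientGroup.mk' N) (hd hk)
      rw [commutator_def, Subgroup.map_commutator, Subgroup.map_top_of_surjective _
        (QuotientGroup.mk'_surjective N)] at h
      exact h
    have hτe : ∀ q : Γ ⧸ N, τ q = 1 → q * q = 1 := by
      intro q hq
      obtain ⟨k, hk, rfl⟩ := hmapker q hq
      rw [← QuotientGroup.mk_mul, QuotientGroup.eq_one_iff]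
      exact ⟨k, hk, rfl⟩
    let P : Sylow 2 (Γ ⧸ N) := default
    have h := Suzuki.Multiplier.no_prime_in_kernel τ hτc hτd P (h2 (Γ ⧸ N) τ hτc hτ hτe P)
    -- squaring on the kernel is not onto
    obtain ⟨⟨z, hz⟩, hzo⟩ := exists_prime_orderOf_dvd_card' (G := σ.ker) 2 hpd
    rw [Subgroup.orderOf_mk] at hzo
    have hsq : ¬ Function.Surjective (fun k : σ.ker => k * k) := by
      intro hs'
      have hinj := Finite.injective_iff_surjective.2 hs'
      have he : (fun k : σ.ker => k * k) ⟨z, hz⟩ = (fun k : σ.ker => k * k) 1 :=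
        Subtype.ext (by simpa [pow_two] using (hzo ▸ pow_orderOf_eq_one z : z ^ 2 = 1))
      have := congrArg Subtype.val (hinj he)
      simp only [OneMemClass.coe_one] at this
      rw [this, orderOf_one] at hzo
      norm_num at hzo
    apply hsq
    intro k
    by_contra hk
    have hkq : (k : Γ ⧸ N) ∈ τ.ker := by
      rw [MonoidHom.mem_ker]; exact k.2
    have hkne : (⟨_, hkq⟩ : τ.ker) ≠ 1 := by
      intro e
      obtain ⟨l, hl, el⟩ := (QuotientGroup.eq_one_iff (k : Γ)).1 (congrArg Subtype.val e)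
      exact hk ⟨⟨l, hl⟩, Subtype.ext el.symm⟩
    apply h
    have ho : orderOf (⟨_, hkq⟩ : τ.ker) = 2 :=
      orderOf_eq_prime (Subtype.ext (by simpa [pow_two] using hτe _ hkq)) hkne
    exact ho ▸ orderOf_dvd_natCard _
  · by_cases hpG : p ∣ Nat.card G
    · let P : Sylow p Γ := default
      exact Suzuki.Multiplier.no_prime_in_kernel σ hc hd P (hodd p hp2 hpG Γ σ hc hsur P) hpd
    · let P : Sylow p Γ := default
      exact Suzuki.Multiplier.no_prime_in_kernel σ hc hd P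
        (cyclic_criterion hc hsur (fun h => hpG ((dvd_pow_self p two_ne_zero).trans h)) P) hpd

end Cfsg.Agent.Transfer.SplitLifts
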