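import Cfsg.Agent.Lib.Transfer.CenterInf
import Mathlib.GroupTheory.Commutator.Basic
import Mathlib.GroupTheory.Focal
import Mathlib.GroupTheory.GroupAction.ConjAct

/-!
For an abelian normal Hall subgroup `A`: `A = (A ∩ G') × (A ∩ Z(G))` and `A ∩ G' = [A, G]`.
-/

set_option autoImplicit false
set_option linter.unusedSectionVars false

namespace Cfsg.Agent.Transfer.AbelianHallNormal

open scoped commutatorElement
open Subgroup

variable {G : Type*} [Group G] [Finite G] (A : Subgroup G) [A.Normal] [IsMulCommutative A]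

theorem commutator_top_eq (hHall : Nat.Coprime (Nat.card A) A.index) :
    ⁅A, (⊤ : Subgroup G)⁆ = commutator G ⊓ A := by
  refine le_antisymm (le_inf (commutator_mono le_top le_rfl) (commutator_le_left _ _)) ?_
  have hfoc : A.focalSubgroup ≤ ⁅A, (⊤ : Subgroup G)⁆ := by
    rw [focalSubgroup_def, closure_le]
    rintro _ ⟨-, x, hx, u, rfl⟩
    exact commutator_mem_commutator hx (mem_top u)
  refine le_trans ?_ hfoc
  have hco : (Nat.card (A ⧸ A.focalSubgroupOf)).Coprime A.index :=
    hHall.coprime_dvd_left (A.focalSubgroupOf.card_quotient_dvd_card)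
  rintro x ⟨hxG, hxA⟩
  have h1 : A.transferFocal x = 1 := by
    open scoped IsMulCommutative in
      exact Abelianization.commutator_subset_ker A.transferFocal hxG
  rw [A.transferFocal_eq_pow ⟨x, hxA⟩] at h1
  have h2 := (powCoprime hco).injective (h1.trans (one_pow _).symm)
  rw [QuotientGroup.eq_one_iff] at h2
  exact h2

/-- The conjugation action of `G ⧸ A` on the abelian normal subgroup `A`. -/
noncomputable def quotientConj : G ⧸ A →* MulAut A :=
  QuotientGroup.lift A (MulAut.conjNormal : G →* MulAut A) (by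
    intro a ha
    rw [MonoidHom.mem_ker]
    ext x
    rw [MulAut.conjNormal_apply, MulAut.one_apply]
    have := congrArg Subtype.val (mul_comm' (⟨a, ha⟩ : A) x)
    simp only [Subgroup.coe_mul] at this
    rw [this, mul_inv_cancel_right])
where
  /-- commutativity in `A` -/
  mul_comm' (a b : A) : a * b = b * a := (‹IsMulCommutative A›).is_comm.comm a b

theorem exists_center_mul_eq_pow (a : A) :
    ∃ z c : A, (z : G) ∈ center G ∧ (c : G) ∈ ⁅A, (⊤ : Subgroup G)⁆ ∧ a ^ A.index = z * c := by
  classical
  open scoped IsMulCommutative in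
  let := Fintype.ofFinite (G ⧸ A)
  open scoped IsMulCommutative in
  let z : A := ∏ q : G ⧸ A, quotientConj A q a
  refine ⟨z, z⁻¹ * a ^ A.index, ?_, ?_, (mul_inv_cancel_left _ _).symm⟩
  · rw [mem_center_iff]
    intro g
    have hfix : quotientConj A (g : G ⧸ A) z = z := by
      open scoped IsMulCommutative in
      calc quotientConj A (g : G ⧸ A) z
          = ∏ q : G ⧸ A, quotientConj A (g : G ⧸ A) (quotientConj A q a) := map_prod _ _ _
        _ = ∏ q : G ⧸ A, quotientConj A ((g : G ⧸ A) * q) a := by
            simp only [map_mul, MulAut.mul_apply]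
        _ = z := Fintype.prod_equiv (Equiv.mulLeft (g : G ⧸ A)) _ _ fun q => rfl
    have := congrArg Subtype.val hfix
    rw [show quotientConj A (g : G ⧸ A) = MulAut.conjNormal g from rfl,
      MulAut.conjNormal_apply, mul_inv_eq_iff_eq_mul] at this
    exact this
  · open scoped IsMulCommutative in
    have hmem : (∏ q : G ⧸ A, (quotientConj A q a)⁻¹ * a) ∈
        (⁅A, (⊤ : Subgroup G)⁆).subgroupOf A := by
      refine Subgroup.prod_mem _ fun q _ => ?_
      obtain ⟨g, rfl⟩ := QuotientGroup.mk_surjective q
      rw [show quotientConj A (g : G ⧸ A) = MulAut.conjNormal g from rfl, mem_subgroupOf]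
      have h := commutator_mem_commutator (H₁ := (⊤ : Subgroup G)) (H₂ := A)
        (mem_top g) (inv_mem a.2)
      rw [commutator_comm] at h
      simpa [commutatorElement_def, mul_assoc] using h
    open scoped IsMulCommutative in
    have heq : (∏ q : G ⧸ A, (quotientConj A q a)⁻¹ * a) = z⁻¹ * a ^ A.index := by
      rw [Finset.prod_mul_distrib, Finset.prod_inv_distrib, Finset.prod_const, Finset.card_univ,
        ← Nat.card_eq_fintype_card]
      rfl
    rw [heq] at hmem
    exact hmem

theorem inf_center_inf_commutator (hHall : Nat.Coprime (Nat.card A) A.index) :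
    (commutator G ⊓ A) ⊓ (center G ⊓ A) = ⊥ := by
  rw [eq_bot_iff, ← CenterInf.inf_commutator_inf_center A hHall]
  intro x hx
  exact ⟨⟨hx.1.2, hx.1.1⟩, hx.2.1⟩

theorem inf_center_sup_commutator (hHall : Nat.Coprime (Nat.card A) A.index) :
    (commutator G ⊓ A) ⊔ (center G ⊓ A) = A := by
  refine le_antisymm (sup_le inf_le_right inf_le_right) fun x hx => ?_
  obtain ⟨b, hb⟩ := (powCoprime hHall).surjective ⟨x, hx⟩
  obtain ⟨z, c, hz, hc, he⟩ := exists_center_mul_eq_pow A b
  have hx' : x = (z : G) * c := by
    have h := congrArg Subtype.val (he.symm.trans hb)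
    simpa using h.symm
  rw [commutator_top_eq A hHall] at hc
  rw [hx']
  exact mul_mem (mem_sup_right ⟨hz, z.2⟩) (mem_sup_left hc)

end Cfsg.Agent.Transfer.AbelianHallNormal
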