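import Mathlib
import Cfsg.Agent.Lib.Transfer.Fusion
import Cfsg.Agent.Solvable.Basics

/-!
Hall's transfer theorem for a weakly closed subgroup satisfying an Engel condition.
-/

set_option autoImplicit false
set_option linter.all false

namespace Cfsg.Agent.Transfer.HallEngel

open Subgroup Cfsg
open Cfsg.Agent.Transfer.Fusion Cfsg.Agent.Transfer.NormalPComplement

theorem choose_pred_zmod {p : ℕ} [hp : Fact p.Prime] {k : ℕ} (hk : k < p) :
    ((p - 1).choose k : ZMod p) = (-1) ^ k := by
  induction k with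
  | zero => simp
  | succ k ih =>
    have h1 : (p.choose (k + 1) : ZMod p) = 0 :=
      (CharP.cast_eq_zero_iff (ZMod p) p _).mpr (hp.out.dvd_choose_self (by omega) hk)
    rw [Nat.choose_eq_choose_pred_add hp.out.pos (by omega : 0 < k + 1), Nat.add_sub_cancel, Nat.cast_add] at h1
    rw [pow_succ, ← ih (by omega), mul_neg_one]
    exact (neg_eq_of_add_eq_zero_right h1).symm

theorem coeff_dvd {p : ℕ} [hp : Fact p.Prime] {k : ℕ} (hk : k < p) :
    (p : ℤ) ∣ (-1 : ℤ) ^ (p - 1 - k) * (p - 1).choose k - 1 := by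
  rw [← ZMod.intCast_zmod_eq_zero_iff_dvd]
  push_cast
  rw [choose_pred_zmod hk, ← pow_add, Nat.sub_add_cancel (by omega), sub_eq_zero]
  exact ZMod.pow_card_sub_one_eq_one (neg_ne_zero.mpr one_ne_zero)

/-- The shift quotient. -/
def shiftDiv {A : Type*} [CommGroup A] (f : ℕ → A) : ℕ → A := fun i => f (i + 1) / f i

/-- A vanishing difference of order `p - 1` makes the product of `p` terms a `p`-th power. -/
theorem prod_range_mem {A : Type*} [CommGroup A] {p : ℕ} [hp : Fact p.Prime] (f : ℕ → A)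
    (h : shiftDiv^[p - 1] f 0 ∈ (powMonoidHom p : A →* A).range) :
    ∏ i ∈ Finset.range p, f i ∈ (powMonoidHom p : A →* A).range := by
  let g : ℕ → Additive A := fun i => Additive.ofMul (f i)
  have hiter : ∀ k i, (fwdDiff 1)^[k] g i = Additive.ofMul (shiftDiv^[k] f i) := by
    intro k
    induction k with
    | zero => intro i; rfl
    | succ k ih =>
      intro i
      rw [Function.iterate_succ_apply', Function.iterate_succ_apply', fwdDiff, ih, ih]
      rfl
  have h0 := (fwdDiff_iter_eq_sum_shift (h := 1) g (p - 1) 0).symm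
  rw [hiter, show p - 1 + 1 = p by have := hp.out.pos; omega] at h0
  simp only [zero_add, smul_eq_mul, mul_one] at h0
  choose w hw using fun k : Finset.range p => coeff_dvd (p := p) (Finset.mem_range.mp k.2)
  suffices e : ∏ i ∈ Finset.range p, f i = ((∏ k : Finset.range p, f k ^ w k)⁻¹) ^ p * shiftDiv^[p - 1] f 0 by
    rw [e]
    exact mul_mem ⟨_, rfl⟩ h
  apply Additive.ofMul.injective
  rw [ofMul_mul, ofMul_pow, ofMul_inv, ofMul_prod, ofMul_prod]
  simp only [ofMul_zpow]
  rw [← Finset.sum_coe_sort (Finset.range p) (fun i => Additive.ofMul (f i))]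
  rw [← Finset.sum_coe_sort] at h0
  rw [smul_neg, eq_neg_add_iff_add_eq, add_comm, Finset.smul_sum, ← Finset.sum_add_distrib]
  refine Eq.trans (Finset.sum_congr rfl fun k _ => ?_) h0
  rw [← natCast_zsmul (w k • _) p, smul_smul]
  show Additive.ofMul (f k) + _ = _ • g k
  rw [← hw k, sub_smul, one_smul, add_sub_cancel]

section Cocycle

variable {G : Type*} [Group G] {H : Subgroup G} {A : Type*} [CommGroup A] (θ : H →* A)

theorem out_conj_mem (g : G) (q : G ⧸ H) : (g • q).out⁻¹ * g * q.out ∈ H := by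
  rw [mul_assoc]
  refine QuotientGroup.eq.mp ?_
  rw [QuotientGroup.out_eq']
  conv_lhs => rw [← QuotientGroup.out_eq' q]
  rfl

/-- One factor of the transfer. -/
noncomputable def cval (g : G) (q : G ⧸ H) : A := θ ⟨_, out_conj_mem g q⟩

theorem cval_mul (g h : G) (q : G ⧸ H) : cval θ (g * h) q = cval θ g (h • q) * cval θ h q := by
  rw [cval, cval, cval, ← map_mul]
  congr 1
  refine Subtype.ext ?_
  show ((g * h) • q).out⁻¹ * (g * h) * q.out = (g • h • q).out⁻¹ * g * (h • q).out * ((h • q).out⁻¹ * h * q.out)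
  rw [mul_smul]
  group

theorem cval_one (q : G ⧸ H) : cval θ 1 q = 1 := by
  have h := cval_mul θ 1 1 q
  rw [one_smul, one_mul] at h
  exact left_eq_mul.mp h

theorem cval_fixed {g : G} {q : G ⧸ H} (hq : g • q = q) :
    ∃ hm : q.out⁻¹ * g * q.out ∈ H, cval θ g q = θ ⟨_, hm⟩ := by
  refine ⟨by simpa [hq] using out_conj_mem g q, ?_⟩
  rw [cval]
  congr 1
  exact Subtype.ext (congrArg (fun x : G ⧸ H => x.out⁻¹ * g * q.out) hq)

theorem cval_pow (u : G) (n : ℕ) (q : G ⧸ H) :
    cval θ (u ^ n) q = ∏ i ∈ Finset.range n, cval θ u (u ^ i • q) := by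
  induction n with
  | zero => rw [pow_zero, cval_one, Finset.prod_range_zero]
  | succ n ih => rw [pow_succ', cval_mul, ih, Finset.prod_range_succ, mul_comm]

theorem prod_cval_mul {B : Finset (G ⧸ H)} (g : G) {h : G} (hB : ∀ q ∈ B, h • q ∈ B) :
    ∏ q ∈ B, cval θ (g * h) q = (∏ q ∈ B, cval θ g q) * ∏ q ∈ B, cval θ h q := by
  classical
  rw [Finset.prod_congr rfl fun q _ => cval_mul θ g h q, Finset.prod_mul_distrib]
  congr 1
  have hinj : Set.InjOn (fun q : G ⧸ H => h • q) B := fun a _ b _ he => MulAction.injective h he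
  have himg : B.image (fun q => h • q) = B := by
    refine Finset.eq_of_subset_of_card_le (fun x hx => ?_) (Finset.card_image_of_injOn hinj).ge
    obtain ⟨q, hq, rfl⟩ := Finset.mem_image.mp hx
    exact hB q hq
  conv_rhs => rw [← himg, Finset.prod_image hinj]

/-- An element without fixed points on an invariant set. -/
theorem prod_cval_mem [Finite G] {p : ℕ} [hp : Fact p.Prime] {S : Subgroup A} {u : G}
    (hu : ∃ k, orderOf u = p ^ k)
    (hval : ∀ q : G ⧸ H, ∀ r : ℕ, p ∣ r → r ∣ orderOf u → u ^ r • q = q → cval θ (u ^ r) q ∈ S) :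
    ∀ B : Finset (G ⧸ H), (∀ q ∈ B, u • q ∈ B) → (∀ q ∈ B, u • q ≠ q) → ∏ q ∈ B, cval θ u q ∈ S := by
  classical
  intro B
  induction B using Finset.strongInduction with
  | _ B IH =>
  intro hB hfix
  rcases B.eq_empty_or_nonempty with rfl | ⟨q, hq⟩
  · rw [Finset.prod_empty]; exact one_mem _
  set f : G ⧸ H → G ⧸ H := fun x => u • x with hf
  have hit : ∀ n x, f^[n] x = u ^ n • x := fun n x => congrFun (smul_iterate u n) x
  set r := Function.minimalPeriod f q with hr
  have hper : Function.IsPeriodicPt f (orderOf u) q := by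
    show f^[orderOf u] q = q
    rw [hit, pow_orderOf_eq_one, one_smul]
  have hrd : r ∣ orderOf u := hper.minimalPeriod_dvd
  have hrq : u ^ r • q = q := by rw [← hit]; exact Function.iterate_minimalPeriod
  have hrpos : 0 < r := hper.minimalPeriod_pos (orderOf_pos u)
  have hpr : p ∣ r := by
    obtain ⟨k, hk⟩ := hu
    rw [hk] at hrd
    obtain ⟨j, -, hj⟩ := (Nat.dvd_prime_pow hp.out).mp hrd
    rw [hj]
    refine dvd_pow_self p ?_
    rintro rfl
    refine hfix q hq ?_
    rw [pow_zero] at hj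
    rwa [hj, pow_one] at hrq
  have hclosed : ∀ n, u ^ n • q ∈ B := by
    intro n
    induction n with
    | zero => rwa [pow_zero, one_smul]
    | succ n ih => rw [pow_succ', mul_smul]; exact hB _ ih
  set R := (Finset.range r).image (fun i => u ^ i • q) with hR
  have hRB : R ⊆ B := by
    intro x hx
    obtain ⟨i, -, rfl⟩ := Finset.mem_image.mp hx
    exact hclosed i
  have hinj : Set.InjOn (fun i : ℕ => u ^ i • q) (Finset.range r) := by
    intro i hi j hj h
    refine Function.iterate_injOn_Iio_minimalPeriod (f := f) (x := q) (by simpa using hi) (by simpa using hj) ?_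
    show f^[i] q = f^[j] q
    rw [hit, hit]; exact h
  have hmem : ∀ n, u ^ n • q ∈ R := fun n => Finset.mem_image.mpr ⟨n % r, Finset.mem_range.mpr (Nat.mod_lt _ hrpos), by
    show u ^ (n % r) • q = u ^ n • q
    rw [← hit, ← hit]; exact Function.iterate_mod_minimalPeriod_eq⟩
  rw [← Finset.sdiff_union_of_subset hRB, Finset.prod_union Finset.sdiff_disjoint]
  refine mul_mem (IH _ (Finset.sdiff_ssubset hRB ⟨q, by simpa using hmem 0⟩) (fun x hx => ?_)
    fun x hx => hfix x (Finset.mem_sdiff.mp hx).1) ?_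
  · rw [Finset.mem_sdiff] at hx ⊢
    refine ⟨hB x hx.1, fun hmemR => hx.2 ?_⟩
    obtain ⟨i, -, hi⟩ := Finset.mem_image.mp hmemR
    have : x = u ^ (orderOf u - 1 + i) • q := by
      rw [pow_add, mul_smul, hi, ← mul_smul, ← pow_succ, Nat.sub_add_cancel (orderOf_pos u), pow_orderOf_eq_one,
        one_smul]
    rw [this]; exact hmem _
  · rw [Finset.prod_image hinj, ← cval_pow]
    exact hval q r hpr hrd hrq

end Cocycle

variable {G : Type*} [Group G] [Finite G] {p : ℕ} [hp : Fact p.Prime]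

set_option maxHeartbeats 1000000 in
/-- The normalizer of `Q` controls transfer. -/
theorem focal_le_of_frattini (P : Sylow p G) (Q : Subgroup G) (hQ : IsWeaklyClosed Q (P : Subgroup G))
    (hE : ∀ u ∈ (P : Subgroup G), ∀ z ∈ Q, ∀ W₀ : Subgroup Q, IsCoatom W₀ →
      (fun y : G => y⁻¹ * z⁻¹ * y * z)^[p - 1] u ∈ W₀.map Q.subtype →
      (fun y : G => y⁻¹ * z⁻¹ * y * z)^[p - 1] u ∈ ((frattini W₀).map W₀.subtype).map Q.subtype) :
    (P : Subgroup G) ≤ normalizer (Q : Set G) ∧
      (P : Subgroup G) ⊓ commutator G ≤ ⁅normalizer (Q : Set G), normalizer (Q : Set G)⁆ := by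
  classical
  have hPH : (P : Subgroup G) ≤ normalizer (Q : Set G) := fun g hg => by
    refine map_conj_eq_self_iff.mp (hQ.2 g ?_)
    exact (map_mono hQ.1).trans (map_conj_le_of_mem hg).le
  refine ⟨hPH, ?_⟩
  set H := normalizer (Q : Set G) with hH
  let PH : Sylow p H := P.subtype hPH
  -- the target
  let θ₀ := PH.transferFocal
  letI : CommGroup θ₀.range :=
    { (inferInstance : Group θ₀.range) with
      mul_comm := fun a b => Subtype.ext
        ((inferInstance : IsMulCommutative (PH ⧸ PH.focalSubgroupOf)).is_comm.comm a.1 b.1) }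
  let θ : H →* θ₀.range := θ₀.rangeRestrict
  have hθs : Function.Surjective θ := θ₀.rangeRestrict_surjective
  have hA : IsPGroup p θ₀.range := (PH.2.to_quotient PH.focalSubgroupOf).to_subgroup _
  set S := (powMonoidHom p : θ₀.range →* θ₀.range).range with hS
  letI : Fintype (G ⧸ H) := Fintype.ofFinite _
  let V : G →* θ₀.range := MonoidHom.mk' (fun g => ∏ q, cval θ g q)
    fun g h => prod_cval_mul θ g fun q _ => Finset.mem_univ _
  let θP : (P : Subgroup G) →* θ₀.range := θ.comp (inclusion hPH)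
  let ψ : (P : Subgroup G) →* θ₀.range := V.comp (P : Subgroup G).subtype
  -- congruence modulo `p`-th powers
  have key : ∀ n, ∀ u : (P : Subgroup G), orderOf (u : G) ≤ n → ψ u / θP u ∈ S := by
    intro n
    induction n using Nat.strong_induction_on with
    | _ n IH =>
    intro u hn
    obtain ⟨k, hk⟩ : ∃ k, orderOf (u : G) = p ^ k := by
      obtain ⟨k, hk⟩ := IsPGroup.iff_orderOf.mp P.2 u
      exact ⟨k, by rwa [Subgroup.orderOf_coe]⟩
    have hval : ∀ q : G ⧸ H, ∀ r : ℕ, p ∣ r → r ∣ orderOf (u : G) → (u : G) ^ r • q = q →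
        cval θ ((u : G) ^ r) q ∈ S := by
      intro q r hpr hrd hfix
      rcases eq_or_ne (u : G) 1 with h1 | h1
      · rw [h1, one_pow, cval_one]; exact one_mem _
      obtain ⟨hm, he⟩ := cval_fixed θ hfix
      rw [he]
      set w : H := ⟨_, hm⟩ with hw
      have hwp : IsPGroup p (zpowers (w : G)) := by
        have hd : orderOf (w : G) ∣ p ^ k := by
          rw [← hk, orderOf_dvd_iff_pow_eq_one, hw]
          show (q.out⁻¹ * (u : G) ^ r * q.out) ^ orderOf (u : G) = 1
          rw [show q.out⁻¹ * (u : G) ^ r * q.out = q.out⁻¹ * (u : G) ^ r * q.out⁻¹⁻¹ by rw [inv_inv],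
            conj_pow, ← pow_mul, mul_comm r, pow_mul, pow_orderOf_eq_one, one_pow, mul_one, mul_inv_cancel]
        obtain ⟨j, -, hj⟩ := (Nat.dvd_prime_pow hp.out).mp hd
        exact IsPGroup.of_card (n := j) (by rw [Nat.card_zpowers, hj])
      obtain ⟨h, hh, hle⟩ := exists_conj_le_of_isPGroup P hPH hwp (zpowers_le.mpr w.2)
      set w' : (P : Subgroup G) := ⟨h * (w : G) * h⁻¹, hle ⟨w, mem_zpowers _, rfl⟩⟩ with hw'
      have hθw : θP w' = θ w := by
        show θ (⟨h, hh⟩ * w * ⟨h, hh⟩⁻¹) = θ w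
        rw [map_mul, map_mul, map_inv, mul_comm (θ ⟨h, hh⟩), mul_inv_cancel_right]
      have hlt : orderOf (w' : G) < orderOf (u : G) := by
        have e : (w' : G) = (h * q.out⁻¹) * (u : G) ^ r * (h * q.out⁻¹)⁻¹ := by
          show h * (q.out⁻¹ * (u : G) ^ r * q.out) * h⁻¹ = _
          group
        have h2 : orderOf (w' : G) ∣ orderOf (u : G) / r := by
          rw [orderOf_dvd_iff_pow_eq_one, e, conj_pow, ← pow_mul, Nat.mul_div_cancel' hrd, pow_orderOf_eq_one,
            mul_one, mul_inv_cancel]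
        have h3 : 2 ≤ r := hp.out.two_le.trans (Nat.le_of_dvd (Nat.pos_of_dvd_of_pos hrd (orderOf_pos _)) hpr)
        have h4 := Nat.div_lt_self (orderOf_pos (u : G)) h3
        exact lt_of_le_of_lt (Nat.le_of_dvd (Nat.div_pos (Nat.le_of_dvd (orderOf_pos _) hrd) (by omega)) h2) h4
      have hψw : ψ w' ∈ S := by
        show V (w' : G) ∈ S
        show V (h * (q.out⁻¹ * (u : G) ^ r * q.out) * h⁻¹) ∈ S
        obtain ⟨j, rfl⟩ := hpr
        refine ⟨V (u : G) ^ j, ?_⟩
        simp only [map_mul, map_inv, map_pow, powMonoidHom_apply]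
        rw [mul_comm (V h), mul_inv_cancel_right, mul_comm (V q.out)⁻¹, inv_mul_cancel_right]
        simp [← pow_mul, mul_comm]
      rw [← hθw]
      have := IH _ (lt_of_lt_of_le hlt hn) w' le_rfl
      have h5 := div_mem hψw this
      rwa [div_div_cancel] at h5
    -- orbits of `Q` and `u`
    set T := Q ⊔ zpowers (u : G) with hT
    have hTP : T ≤ (P : Subgroup G) := sup_le hQ.1 (zpowers_le.mpr u.2)
    have huT : (u : G) ∈ T := mem_sup_right (mem_zpowers _)
    have hTp : IsPGroup p T := P.2.to_le hTP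
    have horbit : ∀ q : G ⧸ H, q ≠ ((1 : G) : G ⧸ H) →
        ∏ x ∈ Finset.univ.filter (fun x => x ∈ MulAction.orbit T q), cval θ (u : G) x ∈ S := by
      intro q hq
      set O := Finset.univ.filter (fun x : G ⧸ H => x ∈ MulAction.orbit T q) with hO
      have hOm : ∀ x, x ∈ O ↔ ∃ t ∈ T, t • q = x := fun x => by
        rw [hO, Finset.mem_filter, MulAction.mem_orbit_iff]
        exact ⟨fun h => ⟨h.2.choose, h.2.choose.2, h.2.choose_spec⟩, fun ⟨t, ht, e⟩ => ⟨Finset.mem_univ _, ⟨t, ht⟩, e⟩⟩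
      have hOu : ∀ x ∈ O, (u : G) • x ∈ O := fun x hx => by
        obtain ⟨t, ht, rfl⟩ := (hOm x).mp hx
        exact (hOm _).mpr ⟨_, mul_mem huT ht, mul_smul _ _ _⟩
      by_cases hfree : ∀ x ∈ O, (u : G) • x ≠ x
      · exact prod_cval_mem θ ⟨k, hk⟩ hval O hOu hfree
      push Not at hfree
      obtain ⟨x₀, hx₀, hux₀⟩ := hfree
      obtain ⟨t₀, ht₀, rfl⟩ := (hOm x₀).mp hx₀
      -- a maximal subgroup above the stabilizer
      let St : Subgroup T := MulAction.stabilizer T (t₀ • q)
      have hQn : ¬ Q.subgroupOf T ≤ St := by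
        intro hle'
        refine hq ?_
        obtain ⟨x, rfl⟩ := QuotientGroup.mk_surjective q
        have hfixQ : ∀ z ∈ Q, (t₀ * x)⁻¹ * z * (t₀ * x) ∈ H := by
          intro z hz
          have h1 : z • ((t₀ * x : G) : G ⧸ H) = ((t₀ * x : G) : G ⧸ H) :=
            hle' (show (⟨z, mem_sup_left hz⟩ : T) ∈ Q.subgroupOf T from hz)
          have h2 := QuotientGroup.eq.mp h1.symm
          simpa [mul_assoc] using h2
        set g := t₀ * x with hg
        have hQg : Q.map (MulAut.conj g⁻¹).toMonoidHom ≤ H := by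
          rintro _ ⟨z, hz, rfl⟩
          simpa [mul_assoc] using hfixQ z hz
        obtain ⟨h, hh, hle''⟩ := exists_conj_le_of_isPGroup P hPH ((P.2.to_le hQ.1).map _) hQg
        rw [← map_conj_mul] at hle''
        have hmem : h * g⁻¹ ∈ H := map_conj_eq_self_iff.mp (hQ.2 _ hle'')
        have hgH : g ∈ H := by
          have := mul_mem (inv_mem hh) hmem
          rw [inv_mul_cancel_left] at this
          exact inv_mem_iff.mp this
        refine QuotientGroup.eq.mpr ?_
        have : x ∈ H := by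
          have := mul_mem (inv_mem (hPH (hTP ht₀))) hgH
          rwa [hg, inv_mul_cancel_left] at this
        simpa using inv_mem this
      haveI := hTp.isNilpotent
      obtain ⟨Mt, hMt, hStM⟩ : ∃ Mt : Subgroup T, IsCoatom Mt ∧ St ≤ Mt :=
        (eq_top_or_exists_le_coatom St).resolve_left fun h => hQn (h ▸ le_top)
      haveI : Mt.Normal := Subgroup.NormalizerCondition.normal_of_coatom Mt Group.normalizerCondition_of_isNilpotent hMt
      obtain ⟨z, hzQ, hzM⟩ : ∃ z : T, (z : G) ∈ Q ∧ z ∉ Mt := by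
        by_contra hc
        push Not at hc
        refine hMt.1 (eq_top_iff.mpr ?_)
        have h2 : Q ⊔ zpowers (u : G) ≤ Mt.map T.subtype := sup_le
          (fun y hy => ⟨⟨y, mem_sup_left hy⟩, hc _ hy, rfl⟩)
          (zpowers_le.mpr ⟨⟨u, huT⟩, hStM hux₀, rfl⟩)
        intro y _
        obtain ⟨y', hy', e⟩ := h2 y.2
        rwa [← Subtype.ext e]
      have hidx : Mt.index = p := by
        have hi := Solvable.Basics.index_prime_of_normal_coatom hMt
        obtain ⟨j, hj⟩ := hTp.index Mt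
        exact (Nat.prime_dvd_prime_iff_eq hi hp.out).mp (hi.dvd_of_dvd_pow hj.dvd)
      set π := QuotientGroup.mk' Mt with hπ
      have hπz : π z ≠ 1 := fun h => hzM ((QuotientGroup.eq_one_iff z).mp h)
      have hcardQ : Nat.card (T ⧸ Mt) = p := hidx
      have hord : orderOf (π z) = p := orderOf_eq_prime (hcardQ ▸ pow_card_eq_one') hπz
      have hdec : ∀ t : T, ∃ i < p, ∃ m ∈ Mt, t = z ^ i * m := by
        intro t
        have : π t ∈ zpowers (π z) := mem_zpowers_of_prime_card hcardQ hπz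
        rw [← mem_powers_iff_mem_zpowers, Submonoid.mem_powers_iff] at this
        obtain ⟨i, hi⟩ := this
        refine ⟨i % p, Nat.mod_lt _ hp.out.pos, (z ^ (i % p))⁻¹ * t, ?_, (mul_inv_cancel_left _ _).symm⟩
        rw [← QuotientGroup.eq_one_iff]
        show π ((z ^ (i % p))⁻¹ * t) = 1
        rw [map_mul, map_inv, map_pow, ← hi, ← hord, pow_mod_orderOf, inv_mul_cancel]
      set B₀ := Finset.univ.filter (fun x : G ⧸ H => ∃ m ∈ Mt, (m : G) • (t₀ • q) = x) with hB₀
      have hB₀m : ∀ x, x ∈ B₀ ↔ ∃ m ∈ Mt, (m : G) • (t₀ • q) = x := fun x => by simp [hB₀]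
      have hB₀s : ∀ m ∈ Mt, ∀ x ∈ B₀, (m : G) • x ∈ B₀ := by
        intro m hm x hx
        obtain ⟨m', hm', rfl⟩ := (hB₀m x).mp hx
        exact (hB₀m _).mpr ⟨m * m', mul_mem hm hm', mul_smul _ _ _⟩
      let φ : Mt →* θ₀.range := MonoidHom.mk' (fun m => ∏ x ∈ B₀, cval θ ((m : T) : G) x)
        fun a b => prod_cval_mul θ _ fun x hx => hB₀s b b.2 x hx
      have huM : (⟨u, huT⟩ : T) ∈ Mt := hStM hux₀
      -- split into translates
      have hsplit : O = (Finset.range p ×ˢ B₀).image (fun ix => ((z : G) ^ ix.1) • ix.2) := by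
        ext x
        rw [hOm, Finset.mem_image]
        constructor
        · rintro ⟨t, ht, rfl⟩
          obtain ⟨i, hi, m, hm, e⟩ := hdec ⟨t * t₀⁻¹, mul_mem ht (inv_mem ht₀)⟩
          refine ⟨(i, (m : G) • (t₀ • q)), Finset.mem_product.mpr ⟨Finset.mem_range.mpr hi, (hB₀m _).mpr ⟨m, hm, rfl⟩⟩, ?_⟩
          have e' : t * t₀⁻¹ = (z : G) ^ i * m := by simpa using congrArg Subtype.val e
          show (z : G) ^ i • (m : G) • t₀ • q = t • q
          rw [← mul_smul, ← mul_smul, ← e', inv_mul_cancel_right]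
        · rintro ⟨⟨i, y⟩, hiy, rfl⟩
          obtain ⟨m, -, rfl⟩ := (hB₀m y).mp (Finset.mem_product.mp hiy).2
          exact ⟨(z : G) ^ i * m * t₀, mul_mem (mul_mem (pow_mem z.2 i) m.2) ht₀, by rw [mul_smul, mul_smul]⟩
      have hinj : Set.InjOn (fun ix : ℕ × (G ⧸ H) => ((z : G) ^ ix.1) • ix.2) (Finset.range p ×ˢ B₀ : Finset _) := by
        rintro ⟨i, x⟩ hix ⟨j, y⟩ hjy he
        obtain ⟨hi, hx⟩ := Finset.mem_product.mp hix
        obtain ⟨hj, hy⟩ := Finset.mem_product.mp hjy
        obtain ⟨m, hm, rfl⟩ := (hB₀m x).mp hx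
        obtain ⟨m', hm', rfl⟩ := (hB₀m y).mp hy
        simp only at he
        have hst : ((z ^ j * m')⁻¹ * (z ^ i * m) : T) ∈ St := by
          show (((z ^ j * m')⁻¹ * (z ^ i * m) : T) : G) • (t₀ • q) = t₀ • q
          push_cast
          rw [mul_smul ((z : G) ^ j * (m' : G))⁻¹, mul_smul ((z : G) ^ i), he, ← mul_smul ((z : G) ^ j), inv_smul_smul]
        have hπ1 : π ((z ^ j * m')⁻¹ * (z ^ i * m)) = 1 := (QuotientGroup.eq_one_iff _).mpr (hStM hst)
        have hm1 : π m = 1 := (QuotientGroup.eq_one_iff _).mpr hm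
        have hm'1 : π m' = 1 := (QuotientGroup.eq_one_iff _).mpr hm'
        rw [map_mul, map_inv, map_mul, map_mul, hm1, hm'1, mul_one, mul_one, map_pow, map_pow, inv_mul_eq_one] at hπ1
        have hij : i = j := by
          have := pow_inj_mod.mp hπ1
          rw [hord, Nat.mod_eq_of_lt (Finset.mem_range.mp hi), Nat.mod_eq_of_lt (Finset.mem_range.mp hj)] at this
          exact this.symm
        subst hij
        exact Prod.ext rfl (MulAction.injective _ he)
      rw [hsplit, Finset.prod_image hinj, Finset.prod_product]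
      -- each translate
      have hconj : ∀ m : T, m ∈ Mt → ∀ i : ℕ, (z ^ i)⁻¹ * m * z ^ i ∈ Mt := fun m hm i =>
        (inferInstance : Mt.Normal).conj_mem' m hm _
      let a : T → ℕ → θ₀.range := fun m i =>
        if hm : m ∈ Mt then φ ⟨(z ^ i)⁻¹ * m * z ^ i, hconj m hm i⟩ else 1
      have hblock : ∀ i, ∏ x ∈ B₀, cval θ (u : G) ((z : G) ^ i • x) = a ⟨u, huT⟩ i := by
        intro i
        simp only [a, dif_pos huM]
        show _ = ∏ x ∈ B₀, cval θ ((((z ^ i)⁻¹ * ⟨u, huT⟩ * z ^ i : T)) : G) x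
        set v : T := (z ^ i)⁻¹ * ⟨u, huT⟩ * z ^ i with hv
        have e : (u : G) * (z : G) ^ i = (z : G) ^ i * (v : G) := by
          rw [hv]; push_cast; group
        have h1 : ∀ x, cval θ (u : G) ((z : G) ^ i • x) * cval θ ((z : G) ^ i) x =
            cval θ ((z : G) ^ i * (v : G)) x := fun x => by rw [← cval_mul, e]
        have h2 := prod_cval_mul θ ((z : G) ^ i) (B := B₀) fun x hx => hB₀s v (hconj _ huM i) x hx
        rw [← Finset.prod_congr rfl fun x _ => h1 x, Finset.prod_mul_distrib, mul_comm] at h2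
        exact mul_left_cancel h2
      rw [Finset.prod_congr rfl fun i _ => hblock i]
      -- the commutators
      let D : G → G := fun y => y⁻¹ * (z : G)⁻¹ * y * z
      let Dt : T → T := fun y => y⁻¹ * z⁻¹ * y * z
      have hD : ∀ j (y : T), ((Dt^[j] y : T) : G) = D^[j] (y : G) := by
        intro j
        induction j with
        | zero => intro y; rfl
        | succ j ih => intro y; rw [Function.iterate_succ_apply', Function.iterate_succ_apply', ← ih]; rfl
      have hDM : ∀ y ∈ Mt, Dt y ∈ Mt := fun y hy => by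
        show y⁻¹ * z⁻¹ * y * z ∈ Mt
        rw [show y⁻¹ * z⁻¹ * y * z = y⁻¹ * (z⁻¹ * y * z) by group]
        exact mul_mem (inv_mem hy) ((inferInstance : Mt.Normal).conj_mem' y hy _)
      have hshift : ∀ y ∈ Mt, shiftDiv (a y) = a (Dt y) := by
        intro y hy
        funext i
        simp only [shiftDiv, a, dif_pos hy, dif_pos (hDM y hy)]
        rw [div_eq_mul_inv, mul_comm, ← map_inv, ← map_mul]
        congr 1
        refine Subtype.ext ?_
        show ((z ^ i)⁻¹ * y * z ^ i)⁻¹ * ((z ^ (i + 1))⁻¹ * y * z ^ (i + 1)) =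
          (z ^ i)⁻¹ * (y⁻¹ * z⁻¹ * y * z) * z ^ i
        rw [pow_succ' z i]
        group
      have hiter : ∀ j, shiftDiv^[j] (a ⟨u, huT⟩) = a (Dt^[j] ⟨u, huT⟩) ∧ Dt^[j] ⟨u, huT⟩ ∈ Mt := by
        intro j
        induction j with
        | zero => exact ⟨rfl, huM⟩
        | succ j ih =>
          rw [Function.iterate_succ_apply', Function.iterate_succ_apply', ih.1, hshift _ ih.2]
          exact ⟨rfl, hDM _ ih.2⟩
      refine prod_range_mem _ ?_
      rw [(hiter (p - 1)).1]
      obtain ⟨-, hcM⟩ := hiter (p - 1)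
      -- a maximal subgroup of `Q`
      let incl : Q →* T := inclusion le_sup_left
      set W₀ := Mt.comap incl with hW₀
      have hidxW : W₀.index = p := by
        let f : Q →* T ⧸ Mt := π.comp incl
        have hf : Function.Surjective f := fun c => by
          obtain ⟨n, rfl⟩ := mem_zpowers_of_prime_card (g' := c) hcardQ hπz
          exact ⟨(⟨z, hzQ⟩ : Q) ^ n, by rw [map_zpow]; rfl⟩
        have hker : f.ker = W₀ := by ext w; exact QuotientGroup.eq_one_iff _
        rw [← hker]
        exact (Nat.card_congr (QuotientGroup.quotientKerEquivOfSurjective f hf).toEquiv).trans hcardQ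
      have hW₀co : IsCoatom W₀ := by
        refine ⟨fun h1 => hp.out.ne_one (by rw [← hidxW, h1, index_top]), fun L hL => ?_⟩
        have hdvd := hidxW ▸ index_dvd_of_le hL.le
        rcases (Nat.dvd_prime hp.out).mp hdvd with h1 | h1
        · exact index_eq_one.mp h1
        · have e1 := W₀.card_mul_index
          have e2 := L.card_mul_index
          rw [hidxW] at e1
          rw [h1] at e2
          exact absurd (eq_of_le_of_card_ge hL.le
            (le_of_eq (Nat.eq_of_mul_eq_mul_right hp.out.pos (e2.trans e1.symm)))) hL.ne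
      have hQn' : ∀ y ∈ (P : Subgroup G), ∀ w ∈ Q, y⁻¹ * w * y ∈ Q := fun y hy w hw =>
        (mem_normalizer_iff''.mp (hPH hy) w).mp hw
      set c := Dt^[p - 1] ⟨u, huT⟩ with hc
      have hcQ : (c : G) ∈ Q := by
        rw [hc, show p - 1 = p - 2 + 1 by have := hp.out.two_le; omega, Function.iterate_succ_apply']
        exact mul_mem (hQn' _ (hTP (Dt^[p - 2] ⟨u, huT⟩).2) _ (inv_mem hzQ)) hzQ
      have hcW : (⟨c, hcQ⟩ : Q) ∈ W₀ := hcM
      obtain ⟨_, ⟨w, hwF, rfl⟩, hwc⟩ := hE u u.2 z hzQ W₀ hW₀co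
        (by show D^[p - 1] ((⟨u, huT⟩ : T) : G) ∈ _; rw [← hD]; exact ⟨⟨c, hcQ⟩, hcW, rfl⟩)
      replace hwc : _ = D^[p - 1] ((⟨u, huT⟩ : T) : G) := hwc
      rw [← hD] at hwc
      -- the restriction to `W₀` kills the Frattini subgroup modulo `p`-th powers
      let χ : W₀ →* θ₀.range := φ.comp (MonoidHom.mk' (fun w => (⟨incl w.1, w.2⟩ : Mt)) fun _ _ => rfl)
      have hχF : ∀ w ∈ frattini W₀, χ w ∈ S := by
        intro w hw
        by_contra hnot
        obtain ⟨L, hL, -, hwL⟩ := Solvable.Basics.exists_coatom_notMem hp.out (N := S.comap χ)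
          (fun y hy => by
            rw [mem_comap, MonoidHom.mem_ker.mp (Abelianization.commutator_subset_ker χ hy)]; exact one_mem _)
          (fun y => ⟨χ y, by rw [powMonoidHom_apply, map_pow]⟩) (x := w) hnot
        exact hwL (frattini_le_coatom hL hw)
      have := hχF w hwF
      simp only [a, dif_pos hcM]
      convert this using 1
      show _ = φ _
      congr 1
      refine Subtype.ext (Subtype.ext ?_)
      show (((z ^ 0)⁻¹ * c * z ^ 0 : T) : G) = _
      rw [pow_zero, inv_one, one_mul, mul_one]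
      exact hwc.symm
    -- assemble
    set q₀ : G ⧸ H := ((1 : G) : G ⧸ H) with hq₀
    have hfix₀ : ∀ t ∈ T, t • q₀ = q₀ := fun t ht => by
      rw [hq₀, MulAction.Quotient.smul_coe]
      exact QuotientGroup.eq.mpr (by simpa using inv_mem (hPH (hTP ht)))
    have htriv : cval θ (u : G) q₀ = θP u := by
      obtain ⟨hm, he⟩ := cval_fixed θ (hfix₀ _ huT)
      rw [he]
      have ho : q₀.out ∈ H := by simpa using inv_mem (QuotientGroup.eq.mp (QuotientGroup.out_eq' q₀))
      show θ ⟨_, hm⟩ = θ ⟨(u : G), hPH u.2⟩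
      rw [show (⟨_, hm⟩ : H) = ⟨q₀.out, ho⟩⁻¹ * ⟨(u : G), hPH u.2⟩ * ⟨q₀.out, ho⟩ from rfl, map_mul, map_mul,
        map_inv, mul_comm (θ _)⁻¹, inv_mul_cancel_right]
    show V (u : G) / θP u ∈ S
    rw [← htriv]
    show (∏ q, cval θ (u : G) q) / cval θ (u : G) q₀ ∈ S
    rw [← Finset.mul_prod_erase _ _ (Finset.mem_univ q₀), mul_div_cancel_left]
    rw [← Finset.prod_fiberwise_of_maps_to (g := fun x : G ⧸ H => (Quotient.mk (MulAction.orbitRel T (G ⧸ H)) x))
      (t := Finset.univ) (fun x _ => Finset.mem_univ _)]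
    refine prod_mem fun c _ => ?_
    obtain ⟨q, rfl⟩ := Quotient.exists_rep c
    rcases eq_or_ne q q₀ with rfl | hne
    · rw [Finset.prod_eq_one]
      · exact one_mem _
      intro x hx
      rw [Finset.mem_filter, Finset.mem_erase] at hx
      obtain ⟨t, ht⟩ := Quotient.exact hx.2
      exact absurd (ht.symm.trans (hfix₀ t t.2)) hx.1.1
    · have := horbit q hne
      convert this using 2
      ext x
      simp only [Finset.mem_filter, Finset.mem_erase, Finset.mem_univ, true_and, and_true]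
      refine ⟨fun h => Quotient.exact h.2, fun h => ⟨fun hx => ?_, Quotient.sound h⟩⟩
      obtain ⟨t, ht⟩ := h
      refine hne ?_
      rw [hx] at ht
      have h2 : q = (t : G)⁻¹ • q₀ := by rw [← ht]; exact (inv_smul_smul (t : G) q).symm
      rw [h2, hfix₀ _ (inv_mem t.2)]
  -- the map is onto
  have hθP : Function.Surjective θP := by
    intro b
    obtain ⟨x, rfl⟩ := hθs b
    obtain ⟨m, hm, y, hy, rfl⟩ := mem_sup_of_normal_left.mp ((pResidual_sup_sylow PH).ge (mem_top x))
    have hm1 : θ m = 1 := by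
      refine Subtype.ext ?_
      exact pResidual_le ((PH.2.to_quotient PH.focalSubgroupOf).of_equiv
        (transferFocal.quotientKerMulEquivQuotientFocalSubroupOf PH).symm) hm
    exact ⟨⟨y, hy⟩, by rw [map_mul, hm1, one_mul]; rfl⟩
  have hψ : Function.Surjective ψ := by
    have h1 : ∀ b, ∃ c, b / c ^ p ∈ ψ.range := by
      intro b
      obtain ⟨u, rfl⟩ := hθP b
      obtain ⟨c, hc⟩ := key _ u le_rfl
      refine ⟨c⁻¹, ⟨u, ?_⟩⟩
      rw [powMonoidHom_apply] at hc
      show ψ u = θP u / c⁻¹ ^ p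
      rw [inv_pow, div_inv_eq_mul, hc]
      exact (mul_div_cancel _ _).symm
    intro b
    obtain ⟨e, he⟩ := hA b
    have h2 : ∀ j, ∀ b, ∃ c, b / c ^ p ^ j ∈ ψ.range := by
      intro j
      induction j with
      | zero => intro b; exact ⟨b, by rw [pow_zero, pow_one, div_self']; exact one_mem _⟩
      | succ j ih =>
        intro b
        obtain ⟨c, hc⟩ := ih b
        obtain ⟨d, hd⟩ := h1 c
        refine ⟨d, ?_⟩
        have := mul_mem hc (pow_mem hd (p ^ j))
        rwa [div_pow, div_mul_div_cancel, ← pow_mul, mul_comm p, ← pow_succ] at this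
    obtain ⟨E, hE'⟩ := IsPGroup.iff_card.mp hA
    obtain ⟨c, hc⟩ := h2 E b
    rw [← hE', pow_card_eq_one', div_one] at hc
    exact hc
  -- the kernels agree
  rintro x ⟨hxP, hxG⟩
  set K := (⁅H, H⁆).subgroupOf (P : Subgroup G) with hK
  have hKψ : K ≤ ψ.ker := fun y hy => by
    have h1 : (y : G) ∈ commutator G := commutator_mono le_top le_top hy
    exact Abelianization.commutator_subset_ker V h1
  have hKθ : θP.ker ≤ K := by
    intro y hy
    set yH : H := ⟨(y : G), hPH y.2⟩
    have h1 : yH ∈ θ₀.ker ⊓ (PH : Subgroup H) :=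
      ⟨congrArg Subtype.val (MonoidHom.mem_ker.mp hy), y.2⟩
    rw [ker_transferFocal_inf_eq_focalSubgroup] at h1
    have h2 := focalSubgroup_le_commutator _ h1
    show (y : G) ∈ ⁅H, H⁆
    rw [← map_subtype_commutator]
    exact ⟨yH, h2, rfl⟩
  have hcard : Nat.card ψ.ker = Nat.card θP.ker := by
    have e1 : ψ.ker.index = Nat.card θ₀.range :=
      Nat.card_congr (QuotientGroup.quotientKerEquivOfSurjective ψ hψ).toEquiv
    have e2 : θP.ker.index = Nat.card θ₀.range :=
      Nat.card_congr (QuotientGroup.quotientKerEquivOfSurjective θP hθP).toEquiv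
    have h1 : Nat.card ψ.ker * Nat.card θ₀.range = Nat.card θP.ker * Nat.card θ₀.range := by
      nth_rw 1 [← e1]
      rw [← e2, card_mul_index, card_mul_index]
    exact Nat.eq_of_mul_eq_mul_right Nat.card_pos h1
  have heq : θP.ker = ψ.ker := eq_of_le_of_card_ge (hKθ.trans hKψ) hcard.le
  exact hKθ (heq.ge (show (⟨x, hxP⟩ : (P : Subgroup G)) ∈ ψ.ker from Abelianization.commutator_subset_ker V hxG))

/-- Hall's form with an Engel condition. -/
theorem focal_le (P : Sylow p G) (Q : Subgroup G) (hQ : IsWeaklyClosed Q (P : Subgroup G))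
    (hE : ∀ u ∈ (P : Subgroup G), ∀ z ∈ Q, (fun y : G => y⁻¹ * z⁻¹ * y * z)^[p - 1] u = 1) :
    (P : Subgroup G) ≤ normalizer (Q : Set G) ∧
      (P : Subgroup G) ⊓ commutator G ≤ ⁅normalizer (Q : Set G), normalizer (Q : Set G)⁆ :=
  focal_le_of_frattini P Q hQ fun u hu z hz W₀ _ _ => by rw [hE u hu z hz]; exact one_mem _

end Cfsg.Agent.Transfer.HallEngel
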