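import Cfsg.Agent.Lib.Transfer.Fusion
import Cfsg.Agent.Lib.Transfer.NilpotentHall
import Cfsg.Agent.Lib.Coprime.SchurZassenhaus
import Cfsg.Agent.Lib.Coprime.Commutator
import Cfsg.Agent.Lib.PLocal.Cores
import Cfsg.Agent.Lib.Cores.Basic

/-!
If the Sylow `p`-subgroups of `O^p(G)` are abelian then `O^p(G)` has a complement in `G`.
-/

set_option autoImplicit false

namespace Cfsg.Agent.Transfer.Complement

open Subgroup Cfsg
open scoped Pointwise IsMulCommutative
open Cfsg.Agent.Transfer.NormalPComplement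

universe u

variable {p : ℕ} [hp : Fact p.Prime] {G : Type u} [Group G] [Finite G]

theorem exists_complement
    (h : ∀ Q : Sylow p (pResidual p G), IsMulCommutative Q) :
    ∃ K : Subgroup G, K.IsComplement' (pResidual p G) := by
  set M := pResidual p G with hMdef
  haveI hMn : M.Normal := by
    haveI : (pResidual p G).Characteristic := characteristic_iff_map_le.mpr fun e =>
      map_pResidual_le e.toMonoidHom
    infer_instance
  obtain ⟨P⟩ : Nonempty (Sylow p G) := inferInstance
  set D := M ⊓ (P : Subgroup G) with hD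
  have hDp : IsPGroup p D := P.2.to_le inf_le_right
  have hDidx : ¬ p ∣ (D.subgroupOf M).index := fun hd => by
    rw [show (D.subgroupOf M).index = D.relIndex M from rfl, hD, inf_relIndex_left] at hd
    exact P.not_dvd_index (hd.trans (Cfsg.Agent.Cores.relIndex_dvd_index_right_normal _ _))
  let Q : Sylow p M := (hDp.comap_subtype (K := M)).toSylow hDidx
  haveI hQ : IsMulCommutative (D.subgroupOf M) := h Q
  haveI hDab : IsMulCommutative D := isMulCommutative_iff.mpr fun a b => by
    have h1 := congrArg (fun x : D.subgroupOf M => ((x : M) : G))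
      (mul_comm' (⟨⟨a, a.2.1⟩, a.2⟩ : D.subgroupOf M) ⟨⟨b, b.2.1⟩, b.2⟩)
    exact Subtype.ext h1
  set N := normalizer (D : Set G) with hN
  have hPN : (P : Subgroup G) ≤ N :=
    le_trans (le_inf le_normalizer_of_normal le_normalizer) inf_normalizer_le_normalizer_inf
  set L := N ⊓ M with hL
  have hDL : D ≤ L := le_inf le_normalizer inf_le_left
  haveI : (D.subgroupOf L).Normal :=
    (normal_subgroupOf_iff_le_normalizer hDL).mpr inf_le_left
  have hcardQ : Nat.card (D.subgroupOf M) = Nat.card D :=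
    Nat.card_congr (subgroupOfEquivOfLe inf_le_left).toEquiv
  have hDLcop : (Nat.card D).Coprime ((D.subgroupOf L).index) := by
    obtain ⟨k, hk⟩ := hDp.exists_card_eq
    rw [hk]
    refine Nat.Coprime.pow_left _ ((Nat.Prime.coprime_iff_not_dvd hp.out).mpr fun hd => hDidx ?_)
    refine hd.trans ?_
    change D.relIndex L ∣ D.relIndex M
    exact ⟨L.relIndex M, (relIndex_mul_relIndex D L M hDL inf_le_right).symm⟩
  obtain ⟨H₀, hH₀⟩ := exists_right_complement'_of_coprime (N := D.subgroupOf L)
    (by rwa [Nat.card_congr (subgroupOfEquivOfLe hDL).toEquiv])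
  set H := H₀.map L.subtype with hH
  have hHL : H ≤ L := map_subtype_le _
  have hsup : D ⊔ H = L := by
    have h1 := congrArg (Subgroup.map L.subtype) hH₀.sup_eq_top
    rwa [Subgroup.map_sup, map_subgroupOf_eq_of_le hDL, ← MonoidHom.range_eq_map, range_subtype] at h1
  have hHcard : Nat.card H = (D.subgroupOf L).index := by
    rw [hH, card_map_of_injective L.subtype_injective, hH₀.symm.index_eq_card]
  have hcop : (Nat.card H).Coprime (Nat.card D) := hHcard ▸ hDLcop.symm
  have hHD : H ≤ normalizer (D : Set G) := hHL.trans inf_le_left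
  -- `D = [D, H]`
  have hcomm : D ≤ ⁅D, H⁆ := by
    have hres : pResidual p M = ⊤ := by
      apply Subgroup.map_injective M.subtype_injective
      rw [← MonoidHom.range_eq_map, range_subtype]
      refine le_antisymm (map_subtype_le _) ((closure_le _).mpr fun g hg => ?_)
      exact ⟨⟨g, subset_closure hg⟩, subset_closure (by
        change (orderOf (⟨g, subset_closure hg⟩ : M)).Coprime p
        rwa [← Subgroup.orderOf_coe]), rfl⟩
    have hf : commutator M ⊓ (Q : Subgroup M) ≤ (⁅D, H⁆).subgroupOf M := by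
      refine Cfsg.Agent.Transfer.Fusion.focal_le_of_fusion Q fun x hx g hgx => ?_
      have hHall : Nat.Coprime (Nat.card (D.subgroupOf M)) (D.subgroupOf M).index := by
        obtain ⟨k, hk⟩ := (hDp.comap_subtype (K := M)).exists_card_eq
        rw [show Nat.card (D.subgroupOf M) = p ^ k from hk]
        exact Nat.Coprime.pow_left _ ((Nat.Prime.coprime_iff_not_dvd hp.out).mpr hDidx)
      obtain ⟨n, hn, hn2⟩ :=
        Cfsg.Agent.Transfer.NilpotentHall.exists_normalizer_conj_of_abelian_hall hHall hx hgx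
      have hnL : (n : G) ∈ L := by
        refine ⟨?_, n.2⟩
        have h1 := le_normalizer_map M.subtype (x := (n : G)) ⟨n, hn, rfl⟩
        rwa [map_subgroupOf_eq_of_le inf_le_left] at h1
      rw [← hsup] at hnL
      obtain ⟨d, hd, e, he, hde⟩ := (Cfsg.Agent.Coprime.mem_sup_of_le_normalizer hHD).mp hnL
      have heM : e ∈ M := (hHL he).2
      refine ⟨⟨e, heM⟩, ?_, ?_⟩
      · rw [← hn2]
        refine Subtype.ext ?_
        change e * (x : G) * e⁻¹ = (n : G) * (x : G) * (n : G)⁻¹
        rw [← hde]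
        have hex : e * (x : G) * e⁻¹ ∈ D := (mem_normalizer_iff.mp (hHD he) _).mp hx
        have hdc : Commute d (e * (x : G) * e⁻¹) :=
          congrArg Subtype.val (mul_comm' (⟨d, hd⟩ : D) ⟨_, hex⟩)
        calc e * (x : G) * e⁻¹ = d * (e * (x : G) * e⁻¹) * d⁻¹ := by
              rw [hdc.eq, mul_inv_cancel_right]
          _ = d * e * (x : G) * (d * e)⁻¹ := by group
      · rw [mem_subgroupOf]
        exact commutator_mem_commutator hx he
    intro x hx
    refine hf (show (⟨x, hx.1⟩ : M) ∈ _ from ⟨?_, hx⟩)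
    exact (Cfsg.Agent.Transfer.Fusion.pResidual_inf_le Q ⟨hres ▸ mem_top _, hx⟩).1
  have hCD : D ⊓ centralizer (H : Set G) = ⊥ := by
    have h1 := Cfsg.Agent.Coprime.inf_centralizer_inf_commutator hHD hcop
    refine le_bot_iff.mp (h1 ▸ ?_)
    exact le_inf le_rfl (inf_le_left.trans hcomm)
  -- the Frattini argument
  set R := N ⊓ normalizer (H : Set G) with hR
  have hNR : N = D ⊔ R := by
    refine le_antisymm ?_ (sup_le le_normalizer inf_le_left)
    intro n hn
    have hconjL : MulAut.conj n • L = L := by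
      refine Cfsg.Agent.Coprime.conj_smul_eq_self_iff.mpr ?_
      refine inf_normalizer_le_normalizer_inf (mem_inf.mpr ⟨le_normalizer hn, ?_⟩)
      rw [normalizer_eq_top]; exact mem_top n
    have hconjD : MulAut.conj n • D = D := Cfsg.Agent.Coprime.conj_smul_eq_self_iff.mpr hn
    obtain ⟨d, hd, hdH⟩ := Cfsg.Agent.Coprime.exists_conj_eq_of_sup_eq (N := D)
      (H := MulAut.conj n • H) (K := H) (by
        rw [← hconjD, ← Cfsg.Agent.Coprime.conj_smul_normalizer]
        exact pointwise_smul_le_pointwise_smul_iff.mpr hHD)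
      hHD (by
        conv_lhs => rw [← hconjD, ← smul_sup, hsup, hconjL]
        exact hsup.symm)
      (by rw [Cfsg.Agent.Coprime.card_conj_smul]; exact hcop.symm) hcop.symm
      (Or.inl (Cfsg.Agent.Coprime.isSolvable_of_isMulCommutative D))
    have hr : d * n ∈ normalizer (H : Set G) := Cfsg.Agent.Coprime.conj_smul_eq_self_iff.mp
      (by rw [Cfsg.Agent.Coprime.conj_smul_mul]; exact hdH)
    have h2 := mul_mem (mem_sup_left (T := R) (inv_mem hd))
      (mem_sup_right (S := D) (show d * n ∈ R from ⟨mul_mem (le_normalizer hd) hn, hr⟩))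
    rwa [inv_mul_cancel_left] at h2
  have hDR : D ⊓ R = ⊥ := by
    rw [← le_bot_iff, ← hCD]
    refine le_inf inf_le_left fun d hd e he => ?_
    have h1 : d * e * d⁻¹ ∈ H := (mem_normalizer_iff.mp hd.2.2 e).mp he
    have h2 : d * e * d⁻¹ * e⁻¹ ∈ D := by
      rw [show d * e * d⁻¹ * e⁻¹ = d * (e * d⁻¹ * e⁻¹) by group]
      exact mul_mem hd.1 ((mem_normalizer_iff.mp (hHD he) _).mp (D.inv_mem hd.1))
    have h3 : d * e * d⁻¹ * e⁻¹ ∈ D ⊓ H := ⟨h2, H.mul_mem h1 (H.inv_mem he)⟩
    rw [disjoint_iff.mp (Cfsg.Agent.Coprime.disjoint_of_coprime hcop.symm), mem_bot,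
      mul_inv_eq_one, mul_inv_eq_iff_eq_mul] at h3
    exact h3.symm
  have hcardN : Nat.card N = Nat.card D * Nat.card R := by
    rw [hNR, Cfsg.Agent.Coprime.card_sup_of_disjoint (inf_le_left : R ≤ normalizer (D : Set G))
      (disjoint_iff.mpr hDR)]
  obtain ⟨S⟩ : Nonempty (Sylow p R) := inferInstance
  refine ⟨(S : Subgroup R).map R.subtype, isComplement'_of_card_mul_and_disjoint ?_ ?_⟩
  · rw [card_map_of_injective R.subtype_injective, S.card_eq_multiplicity]
    have hP : Nat.card P = p ^ (Nat.card N).factorization p := by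
      rw [← (P.subtype hPN).card_eq_multiplicity, Sylow.coe_subtype]
      exact (Nat.card_congr (subgroupOfEquivOfLe hPN).toEquiv).symm
    obtain ⟨k, hk⟩ := hDp.exists_card_eq
    have hP2 : Nat.card P = Nat.card D * p ^ (Nat.card R).factorization p := by
      rw [hP, hcardN, Nat.factorization_mul Nat.card_pos.ne' Nat.card_pos.ne', Finsupp.add_apply,
        pow_add, hk, Nat.Prime.factorization_pow hp.out, Finsupp.single_eq_same]
    have hq : Nat.card P = Nat.card D * Nat.card (G ⧸ M) := by
      have h1 := Cfsg.Agent.PLocal.Cores.card_eq_card_inf_ker_mul_card_map (P : Subgroup G)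
        (QuotientGroup.mk' M)
      rw [QuotientGroup.ker_mk', inf_comm, ← hD] at h1
      rw [h1, show (P : Subgroup G).map (QuotientGroup.mk' M) = ⊤ from ?_, card_top]
      rw [← map_top_of_surjective _ (QuotientGroup.mk'_surjective M),
        ← pResidual_sup_sylow P, Subgroup.map_sup, QuotientGroup.map_mk'_self, bot_sup_eq]
    have h2 := Nat.eq_of_mul_eq_mul_left Nat.card_pos (hP2.symm.trans hq)
    rw [h2, ← card_eq_card_quotient_mul_card_subgroup]
  · rw [disjoint_iff]
    have h1 : R ⊓ M ≤ H := by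
      intro r hr
      have hrL : r ∈ L := ⟨hr.1.1, hr.2⟩
      rw [← hsup] at hrL
      obtain ⟨d, hd, e, he, rfl⟩ := (Cfsg.Agent.Coprime.mem_sup_of_le_normalizer hHD).mp hrL
      have hdR : d ∈ D ⊓ R := ⟨hd, by
        have h3 := R.mul_mem hr.1 (R.inv_mem (show e ∈ R from ⟨hHD he, le_normalizer he⟩))
        rwa [mul_inv_cancel_right] at h3⟩
      rw [hDR, mem_bot] at hdR
      rw [hdR, one_mul]; exact he
    rw [eq_bot_iff]
    intro x hx
    obtain ⟨hxS, hxM⟩ := hx
    have hxH : x ∈ H := h1 ⟨map_subtype_le _ hxS, hxM⟩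
    have hHp : (Nat.card H).Coprime p := by
      rw [hHcard]
      refine ((Nat.Prime.coprime_iff_not_dvd hp.out).mpr fun hd => hDidx (hd.trans ?_)).symm
      exact ⟨L.relIndex M, (relIndex_mul_relIndex D L M hDL inf_le_right).symm⟩
    exact (Cfsg.Agent.PLocal.Cores.inf_eq_bot_of_isPGroup_of_coprime (S.2.map R.subtype) hHp).le
      ⟨hxS, hxH⟩

end Cfsg.Agent.Transfer.Complement
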