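import Cfsg.Agent.S2807
import Cfsg.Agent.Lib.Transfer.Tate
import Cfsg.Agent.Lib.PLocal.TheoremB.Jordan
import Cfsg.Prelude.Def_BaumannBlocks

/-!
A Sylow subgroup of class less than `p` has a normalizer controlling the `p`-residual.
-/

set_option linter.all false
set_option autoImplicit false

namespace Cfsg.Agent.Transfer.SmallClass

open Subgroup Cfsg
open Cfsg.Agent.Transfer.NormalPComplement
open Cfsg.Agent.Fusion.WreathQuot (C base)
open scoped commutatorElement

variable {p : ℕ} [hp : Fact p.Prime]

/-- The translate of a function on `ZMod p`. -/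
def shift (p : ℕ) : Module.End (ZMod p) (ZMod p → ZMod p) where
  toFun F := fun x => F (x - 1)
  map_add' _ _ := rfl
  map_smul' _ _ := rfl

theorem shift_pow_apply (i : ℕ) (F : ZMod p → ZMod p) (x : ZMod p) : ((shift p) ^ i) F x = F (x - (i : ZMod p)) := by
  induction i generalizing x with
  | zero => simp
  | succ i ih =>
    rw [pow_succ', Module.End.mul_apply]
    show ((shift p) ^ i) F (x - 1) = _
    rw [ih]
    congr 1
    push_cast
    ring

theorem shift_sub_one_pow_ne_zero :
    ((shift p - 1) ^ (p - 1)) (Pi.single 0 1 : ZMod p → ZMod p) ≠ 0 := by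
  have h := Cfsg.Agent.PLocal.TheoremB.geom_sum_eq_pow (K := ZMod p) (p := p) 1 (shift p)
  rw [pow_one] at h
  rw [← h]
  intro h0
  have h1 := congrFun h0 0
  rw [LinearMap.sum_apply, Finset.sum_apply, Finset.sum_eq_single 0] at h1
  · simp at h1
  · intro i hi hi0
    rw [shift_pow_apply, Pi.single_eq_of_ne]
    rw [zero_sub, neg_ne_zero, Ne, ZMod.natCast_eq_zero_iff]
    exact fun hd => hi0 (Nat.eq_zero_of_dvd_of_lt hd (Finset.mem_range.mp hi))
  · exact fun h2 => absurd (Finset.mem_range.mpr hp.out.pos) h2

/-- The base element of an additive function. -/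
def ofFun (F : ZMod p → ZMod p) : C p ≀ᵣ C p :=
  base fun x => Multiplicative.ofAdd (F x.toAdd)

theorem comm_ofFun (F : ZMod p → ZMod p) :
    ⁅(RegularWreathProduct.inl (Multiplicative.ofAdd 1) : C p ≀ᵣ C p), ofFun F⁆ = ofFun ((shift p - 1) F) := by
  rw [commutatorElement_def]
  ext x
  · simp only [ofFun, base, RegularWreathProduct.mul_left, RegularWreathProduct.inv_left, RegularWreathProduct.mul_right,
      RegularWreathProduct.inv_right, RegularWreathProduct.left_inl, Pi.mul_apply, Pi.one_apply, Pi.inv_apply,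
      RegularWreathProduct.inl, MonoidHom.coe_mk, OneHom.coe_mk, one_mul, mul_one, inv_one, toAdd_ofAdd]
    apply Multiplicative.toAdd.injective
    simp [shift, sub_eq_add_neg, add_comm]
  · simp [ofFun, base, RegularWreathProduct.inl]

/-- The wreath product of two groups of order `p` has class at least `p`. -/
theorem wreath_class : (⊤ : Subgroup (C p ≀ᵣ C p)).lowerCentralSeries (p - 1) ≠ ⊥ := by
  have hmem : ∀ k : ℕ, ofFun (((shift p - 1) ^ k) (Pi.single 0 1)) ∈
      (⊤ : Subgroup (C p ≀ᵣ C p)).lowerCentralSeries k := by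
    intro k
    induction k with
    | zero => simp
    | succ k ih =>
      rw [pow_succ', Module.End.mul_apply, ← comm_ofFun, ← commutatorElement_inv, inv_mem_iff,
        Subgroup.lowerCentralSeries_succ]
      exact commutator_mem_commutator ih (mem_top _)
  intro h
  have h1 := hmem (p - 1)
  rw [h, mem_bot] at h1
  refine shift_sub_one_pow_ne_zero (p := p) (funext fun x => ?_)
  have h2 := congrFun (congrArg RegularWreathProduct.left h1) (Multiplicative.ofAdd x)
  simp only [ofFun, base, RegularWreathProduct.one_left, Pi.one_apply, toAdd_ofAdd] at h2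
  exact Multiplicative.ofAdd.injective h2

/-- A quotient of a group of small class has small class. -/
theorem lcs_bot_of_surjective {G W : Type*} [Group G] [Group W] (H : Subgroup G) {f : H →* W}
    (hf : Function.Surjective f) {n : ℕ} (h : H.lowerCentralSeries n = ⊥) :
    (⊤ : Subgroup W).lowerCentralSeries n = ⊥ := by
  have key : ∀ k, (⊤ : Subgroup W).lowerCentralSeries k ≤ ((H.lowerCentralSeries k).subgroupOf H).map f := by
    intro k
    induction k with
    | zero => simp [Subgroup.map_top_of_surjective f hf]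
    | succ k ih =>
      rw [Subgroup.lowerCentralSeries_succ]
      refine (commutator_mono ih (Subgroup.map_top_of_surjective f hf).ge).trans ?_
      rw [← map_commutator]
      refine map_mono ?_
      show _ ≤ (H.lowerCentralSeries (k + 1)).comap H.subtype
      rw [← map_le_iff_le_comap, map_commutator, Subgroup.lowerCentralSeries_succ]
      refine commutator_mono (map_comap_le _ _) ?_
      rw [← MonoidHom.range_eq_map, range_subtype]
  refine le_bot_iff.mp ((key n).trans ?_)
  rw [h, bot_subgroupOf, Subgroup.map_bot]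

variable {G : Type*} [Group G] [Finite G]

/-- Class less than `p`: the normalizer controls the residual. -/
theorem residual_eq (P : Sylow p G) (hcl : (P : Subgroup G).lowerCentralSeries (p - 1) = ⊥) :
    pResidualOf p (normalizer ((P : Subgroup G) : Set G)) = pResidual p G ⊓ normalizer ((P : Subgroup G) : Set G) := by
  set N := normalizer ((P : Subgroup G) : Set G) with hN
  have hPN : (P : Subgroup G) ≤ N := le_normalizer
  set L := pResidualOf p N with hL
  have hLG : L ≤ pResidual p G ⊓ N :=
    le_inf (map_subtype_pResidual_le N) (map_subtype_le _)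
  refine le_antisymm hLG ?_
  -- the focal subgroups agree
  have hfoc : (P : Subgroup G) ⊓ commutator G = (P : Subgroup G) ⊓ ⁅N, N⁆ := by
    by_contra h
    obtain ⟨W, f, hf⟩ := S2807.result P h
    have hC : Nat.card (C p) = p := by
      rw [Nat.card_congr (Multiplicative.toAdd (α := ZMod p)), Nat.card_zmod]
    obtain ⟨e'⟩ := S2807.wreath_equiv (C p)
    let e : ↥(W : Subgroup (Equiv.Perm (Fin (p ^ 2)))) ≃* IteratedWreathProduct (C p) 2 :=
      Sylow.mulEquivIteratedWreathProduct p 2 (Fin (p ^ 2)) (Nat.card_fin _) (C p) hC W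
    exact wreath_class (lcs_bot_of_surjective (P : Subgroup G)
      (f := (e.trans e'.symm).toMonoidHom.comp f) ((e.trans e'.symm).surjective.comp hf) hcl)
  set O := pResidual p G with hO
  set E₀ : Subgroup (P : Subgroup G) := L.subgroupOf (P : Subgroup G) with hE₀
  haveI hLn : (L.subgroupOf N).Normal := by
    rw [hL, pResidualOf, subgroupOf, comap_map_eq_self_of_injective N.subtype_injective]
    infer_instance
  haveI : E₀.Normal := normal_subgroupOf_of_le_normalizer (hPN.trans ?_)
  swap
  · have hLN : L ≤ N := map_subtype_le _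
    exact (normal_subgroupOf_iff_le_normalizer hLN).mp hLn
  -- `N` is `L` times `P`
  have hdec : ∀ g ∈ N, ∃ a ∈ L, ∃ b ∈ (P : Subgroup G), a * b = g := by
    intro g hg
    have h := pResidual_sup_sylow (P.subtype hPN)
    obtain ⟨a, ha, b, hb, hab⟩ := mem_sup_of_normal_left.mp (show (⟨g, hg⟩ : N) ∈
      pResidual p N ⊔ ((P.subtype hPN : Sylow p N) : Subgroup N) by rw [h]; exact mem_top _)
    exact ⟨a, ⟨a, ha, rfl⟩, b, hb, congrArg Subtype.val hab⟩
  have hD : ⁅N, N⁆ ⊓ (P : Subgroup G) ≤ (E₀ ⊔ frattini (P : Subgroup G)).map (P : Subgroup G).subtype := by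
    set T : Subgroup N := pResidual p N ⊔ ⁅(P : Subgroup G).subgroupOf N, (P : Subgroup G).subgroupOf N⁆ with hT
    haveI : ((P : Subgroup G).subgroupOf N).Normal := Subgroup.normal_in_normalizer
    haveI : T.Normal := by rw [hT]; infer_instance
    set π := QuotientGroup.mk' T with hπ
    have hsurj : ∀ y, ∃ b : N, (b : G) ∈ (P : Subgroup G) ∧ π b = y := by
      intro y
      obtain ⟨g, rfl⟩ := QuotientGroup.mk'_surjective T y
      obtain ⟨a, ha, b, hb, hab⟩ := hdec g g.2
      refine ⟨⟨b, hPN hb⟩, hb, ?_⟩
      obtain ⟨a, ha, rfl⟩ := ha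
      rw [show g = a * ⟨b, hPN hb⟩ from Subtype.ext hab.symm, map_mul,
        show π a = 1 from (QuotientGroup.eq_one_iff a).mpr (mem_sup_left ha), one_mul]
    have hcomm : commutator N ≤ T := by
      rw [commutator_def, commutator_le]
      intro a _ b _
      rw [← QuotientGroup.eq_one_iff]
      show π ⁅a, b⁆ = 1
      obtain ⟨a', ha', ea⟩ := hsurj (π a)
      obtain ⟨b', hb', eb⟩ := hsurj (π b)
      rw [map_commutatorElement, ← ea, ← eb, ← map_commutatorElement]
      exact (QuotientGroup.eq_one_iff _).mpr (mem_sup_right (commutator_mem_commutator ha' hb'))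
    rintro z ⟨hz, hzP⟩
    have hNN : ⁅N, N⁆ = (commutator N).map N.subtype := (map_subtype_commutator N).symm
    rw [hNN] at hz
    obtain ⟨z, hz', rfl⟩ := hz
    obtain ⟨a, ha, b, hb, hab⟩ := mem_sup_of_normal_left.mp (hcomm hz')
    have hbP : (b : G) ∈ ⁅(P : Subgroup G), (P : Subgroup G)⁆ := by
      have := mem_map_of_mem N.subtype hb
      rw [map_commutator] at this
      exact commutator_mono (map_comap_le _ _) (map_comap_le _ _) this
    rw [← map_subtype_commutator] at hbP
    obtain ⟨b', hb', hbe⟩ := hbP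
    have hbG : (b' : G) = b := hbe
    have haP : (a : G) ∈ (P : Subgroup G) := by
      have hval : (a : G) = (z : G) * (b' : G)⁻¹ := by
        rw [hbG, ← hab, Subgroup.coe_mul, mul_inv_cancel_right]
      rw [hval]
      exact mul_mem hzP (inv_mem b'.2)
    refine ⟨⟨a, haP⟩ * b', mul_mem (mem_sup_left (mem_subgroupOf.mpr ⟨a, ha, rfl⟩)) (mem_sup_right ?_), ?_⟩
    · haveI := P.2.isNilpotent
      exact Cfsg.Agent.Coprime.commutator_le_frattini (P : Subgroup G) hb'
    · show (a : G) * (b' : G) = z
      rw [hbG, ← hab, Subgroup.coe_mul]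
  have heq : O.subgroupOf (P : Subgroup G) = E₀ := by
    refine Tate.eq_of_le_sup_frattini P O ?_ (pResidual_sup_sylow P) E₀ ?_ ?_
    · rw [hO]
      exact (closure_le _).mpr fun g hg => subset_closure ⟨mem_pResidual_of_coprime hg, hg⟩
    · exact fun x hx => (hLG hx).1
    · intro x hx
      have h1 : (x : G) ∈ commutator G ⊓ (P : Subgroup G) := Fusion.pResidual_inf_le P ⟨hx, x.2⟩
      rw [inf_comm, hfoc, inf_comm] at h1
      obtain ⟨y, hy, hyx⟩ := hD h1
      rwa [← Subtype.ext hyx]
  rintro g ⟨hgO, hgN⟩
  obtain ⟨a, ha, b, hb, rfl⟩ := hdec g hgN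
  refine mul_mem ha ?_
  have hbO : b ∈ O := by simpa using O.mul_mem (O.inv_mem (hLG ha).1) hgO
  have : (⟨b, hb⟩ : (P : Subgroup G)) ∈ E₀ := heq ▸ (mem_subgroupOf.mpr hbO)
  exact mem_subgroupOf.mp this

end Cfsg.Agent.Transfer.SmallClass
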