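import Cfsg.Prelude.Def_KGroupFacts
import Mathlib

/-!
A bound on the kernel of a stem extension of a group with a doubly transitive action, from the
point stabiliser having trivial multiplier: the kernel is the image of the two-point stabiliser
under the homomorphism measuring how a lifted swapping involution conjugates the lifted stabiliser.
-/

set_option autoImplicit false

namespace Cfsg.Agent.Transfer.TwoPointLift

open scoped commutatorElement

universe u v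

variable {Γ : Type u} {G : Type v} [Group Γ] [Group G] (σ : Γ →* G)

/-- A perfect subgroup all of whose stem extensions are trivial lifts isomorphically. -/
theorem exists_lift (hc : σ.ker ≤ Subgroup.center Γ) (hσ : Function.Surjective σ) [Finite Γ]
    (H : Subgroup G) (hH : ⁅H, H⁆ = H)
    (htriv : ∀ (Δ : Type u) [Group Δ] [Finite Δ] (τ : Δ →* H), Cfsg.IsStemExtension τ → τ.ker = ⊥) :
    ∃ l : H →* Γ, ∀ h : H, σ (l h) = h := by
  classical
  set P := H.comap σ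
  set D := ⁅P, P⁆
  have hPmap : P.map σ = H := Subgroup.map_comap_eq_self_of_surjective hσ H
  have hDmap : D.map σ = H := by rw [Subgroup.map_commutator, hPmap, hH]
  have hPD : ∀ x ∈ P, ∃ d ∈ D, ∃ k ∈ σ.ker, x = d * k := by
    intro x hx
    have : σ x ∈ D.map σ := by rw [hDmap]; exact hx
    obtain ⟨d, hd, he⟩ := this
    exact ⟨d, hd, d⁻¹ * x, by rw [MonoidHom.mem_ker, map_mul, map_inv, he, inv_mul_cancel],
      by rw [mul_inv_cancel_left]⟩
  have hcong : ∀ x ∈ P, ∀ y ∈ P, ⁅x, y⁆ ∈ ⁅D, D⁆ := by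
    intro x hx y hy
    obtain ⟨d, hd, k, hk, rfl⟩ := hPD x hx
    obtain ⟨e, he, j, hj, rfl⟩ := hPD y hy
    have hk' := Subgroup.mem_center_iff.1 (hc hk)
    have hj' := Subgroup.mem_center_iff.1 (hc hj)
    have : ⁅d * k, e * j⁆ = ⁅d, e⁆ := by
      rw [commutatorElement_def, commutatorElement_def, mul_inv_rev, mul_inv_rev]
      calc d * k * (e * j) * (k⁻¹ * d⁻¹) * (j⁻¹ * e⁻¹)
          = d * e * (k * j) * (k⁻¹ * d⁻¹) * (j⁻¹ * e⁻¹) := by
            rw [mul_assoc d k (e * j), ← mul_assoc k e j, ← hk' e]; group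
        _ = d * e * (j * (k * k⁻¹) * d⁻¹) * (j⁻¹ * e⁻¹) := by rw [← hk' j]; group
        _ = d * e * (d⁻¹ * j) * (j⁻¹ * e⁻¹) := by rw [mul_inv_cancel, mul_one, ← hj' d⁻¹]
        _ = d * e * d⁻¹ * e⁻¹ := by group
    rw [this]
    exact Subgroup.commutator_mem_commutator hd he
  have hperf : ⁅D, D⁆ = D := le_antisymm (Subgroup.commutator_mono
      (Subgroup.commutator_le_self P) (Subgroup.commutator_le_self P)) (Subgroup.commutator_le.2 hcong)
  let τ : D →* H := (σ.comp D.subtype).codRestrict H fun d =>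
    hDmap ▸ Subgroup.mem_map_of_mem σ d.2
  have hτ : Cfsg.IsStemExtension τ := by
    refine ⟨fun h => ?_, fun d hd => ?_, fun d _ => ?_⟩
    · have : (h : G) ∈ D.map σ := by rw [hDmap]; exact h.2
      obtain ⟨d, hd, he⟩ := this
      exact ⟨⟨d, hd⟩, Subtype.ext he⟩
    · rw [Subgroup.mem_center_iff]
      intro e
      exact Subtype.ext (Subgroup.mem_center_iff.1 (hc (congrArg Subtype.val hd)) e)
    · have h1 : (commutator D).map D.subtype = D := by
        rw [commutator_def, Subgroup.map_commutator, ← MonoidHom.range_eq_map, Subgroup.range_subtype,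
          hperf]
      obtain ⟨e, he, hed⟩ : (d : Γ) ∈ (commutator D).map D.subtype := by rw [h1]; exact d.2
      exact Subtype.ext hed ▸ he
  have hinj : Function.Injective τ := (MonoidHom.ker_eq_bot_iff τ).1 (htriv D τ hτ)
  let e : D ≃* H := MulEquiv.ofBijective τ ⟨hinj, hτ.1⟩
  exact ⟨D.subtype.comp e.symm.toMonoidHom, fun h => congrArg Subtype.val (e.apply_symm_apply h)⟩

/-- The bound. -/
theorem card_ker_le [Finite Γ] (hst : Cfsg.IsStemExtension σ) (H M : Subgroup G) (hH : ⁅H, H⁆ = H)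
    (htriv : ∀ (Δ : Type u) [Group Δ] [Finite Δ] (τ : Δ →* H), Cfsg.IsStemExtension τ → τ.ker = ⊥)
    {s t : G} (hs : s * s = 1) (ht : t * t = 1) (hst3 : (s * t) ^ 3 = 1) (htH : t ∈ H) (hsH : s ∉ H)
    (hMH : M ≤ H) (hMs : ∀ m ∈ M, s * m * s ∈ M)
    (hHcases : ∀ h ∈ H, h ∈ M ∨ ∃ m ∈ M, ∃ m' ∈ M, h = m * t * m')
    (hGcases : ∀ g, g ∈ H ∨ ∃ h ∈ H, ∃ h' ∈ H, g = h * s * h')
    (n : ℕ) (hn : ∀ (A : Subgroup Γ) (f : M →* A), A ≤ Subgroup.center Γ → Nat.card f.range ≤ n) :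
    Nat.card σ.ker ≤ n := by
  classical
  obtain ⟨hσ, hc, hd⟩ := hst
  obtain ⟨l, hl⟩ := exists_lift σ hc hσ H hH htriv
  have central : ∀ {z : Γ}, σ z = 1 → ∀ g : Γ, g * z = z * g :=
    fun hz g => Subgroup.mem_center_iff.1 (hc hz) g
  set T := l ⟨t, htH⟩
  have hT : σ T = t := hl _
  have hTT : T * T = 1 := by
    rw [← map_mul, ← map_one l]; exact congrArg l (Subtype.ext ht)
  -- a good lift of `s`
  obtain ⟨S, hS, hSS, hbraid⟩ : ∃ S, σ S = s ∧ S * S = 1 ∧ S * T * S = T * S * T := by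
    obtain ⟨S₀, hS₀⟩ := hσ s
    set k₂ := S₀ * S₀ with hk₂def
    set k₃ := (S₀ * T) ^ 3 with hk₃def
    have hk₂ : σ k₂ = 1 := by rw [map_mul, hS₀, hs]
    have hk₃ : σ k₃ = 1 := by rw [map_pow, map_mul, hS₀, hT, hst3]
    have hTi : T⁻¹ = T := inv_eq_of_mul_eq_one_right hTT
    have h1 : S₀ * T * S₀ = k₃ * (T * S₀⁻¹ * T) := by
      calc S₀ * T * S₀ = (S₀ * T) ^ 3 * (T⁻¹ * S₀⁻¹ * T⁻¹) := by
            simp only [pow_succ, pow_zero, one_mul]; group
        _ = _ := by rw [hTi, hk₃def]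
    have h2 : k₂ * k₂ = k₃ * k₃ * k₂⁻¹ := by
      have e1 : (S₀ * T * S₀) * (S₀ * T * S₀) = k₂ * k₂ := by
        calc (S₀ * T * S₀) * (S₀ * T * S₀) = S₀ * T * (S₀ * S₀) * T * S₀ := by group
          _ = S₀ * (T * k₂ * T) * S₀ := by rw [hk₂def]; group
          _ = S₀ * (k₂ * (T * T)) * S₀ := by rw [central hk₂ T, mul_assoc k₂]
          _ = k₂ * (S₀ * S₀) := by rw [hTT, mul_one, central hk₂ S₀, mul_assoc]
      have e2 : (k₃ * (T * S₀⁻¹ * T)) * (k₃ * (T * S₀⁻¹ * T)) = k₃ * k₃ * k₂⁻¹ := by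
        have e3 : T * S₀⁻¹ * T * (T * S₀⁻¹ * T) = k₂⁻¹ := by
          calc T * S₀⁻¹ * T * (T * S₀⁻¹ * T) = T * S₀⁻¹ * (T * T) * S₀⁻¹ * T := by group
            _ = T * k₂⁻¹ * T := by rw [hTT, hk₂def]; group
            _ = k₂⁻¹ * (T * T) := by rw [central (by rw [map_inv, hk₂, inv_one]) T, mul_assoc]
            _ = k₂⁻¹ := by rw [hTT, mul_one]
        rw [mul_assoc k₃, ← mul_assoc (T * S₀⁻¹ * T), central hk₃, mul_assoc k₃ (T * S₀⁻¹ * T), e3,
          ← mul_assoc]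
      rw [← e1, ← e2, h1]
    set c := k₃ * k₂⁻¹
    have hc' : σ c = 1 := by rw [map_mul, map_inv, hk₂, hk₃, inv_one, one_mul]
    have hcc : c * c = k₂ := by
      have hk : k₂⁻¹ * k₃ = k₃ * k₂⁻¹ := central hk₃ k₂⁻¹
      calc c * c = k₃ * (k₂⁻¹ * k₃) * k₂⁻¹ := by simp only [c]; group
        _ = k₃ * k₃ * k₂⁻¹ * k₂⁻¹ := by rw [hk]; group
        _ = k₂ * k₂ * k₂⁻¹ := by rw [← h2]
        _ = k₂ := by group
    have hci : σ c⁻¹ = 1 := by rw [map_inv, hc', inv_one]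
    refine ⟨S₀ * c⁻¹, by rw [map_mul, hS₀, hci, mul_one], ?_, ?_⟩
    · calc S₀ * c⁻¹ * (S₀ * c⁻¹) = S₀ * (c⁻¹ * S₀) * c⁻¹ := by group
        _ = k₂ * (c⁻¹ * c⁻¹) := by rw [← central hci S₀, hk₂def]; group
        _ = 1 := by rw [← hcc]; group
    · calc S₀ * c⁻¹ * T * (S₀ * c⁻¹) = S₀ * (c⁻¹ * T) * S₀ * c⁻¹ := by group
        _ = S₀ * T * (c⁻¹ * S₀) * c⁻¹ := by rw [← central hci T]; group
        _ = S₀ * T * S₀ * (c⁻¹ * c⁻¹) := by rw [← central hci S₀]; group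
        _ = k₃ * (T * S₀⁻¹ * T) * k₂⁻¹ := by rw [h1, ← hcc]; group
        _ = T * S₀⁻¹ * T * (k₃ * k₂⁻¹) := by rw [← central hk₃ (T * S₀⁻¹ * T), mul_assoc]
        _ = T * S₀⁻¹ * T * c := rfl
        _ = T * S₀⁻¹ * (c * T) := by rw [← central hc' T]; group
        _ = T * (S₀⁻¹ * c) * T := by group
        _ = T * (S₀ * c⁻¹) * T := by
          congr 2
          rw [inv_mul_eq_iff_eq_mul, ← mul_assoc, eq_mul_inv_iff_mul_eq, hcc]
  -- the measuring homomorphism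
  have hsm : ∀ m : M, s * (m : G) * s ∈ H := fun m => hMH (hMs m m.2)
  let lM : M →* Γ := l.comp (Subgroup.inclusion hMH)
  have hlM : ∀ m : M, σ (lM m) = m := fun m => hl _
  let ε : M → Γ := fun m => (l ⟨_, hsm m⟩)⁻¹ * (S * lM m * S)
  have hε : ∀ m, σ (ε m) = 1 := fun m => by
    rw [map_mul, map_inv, hl, map_mul, map_mul, hS, hlM, inv_mul_cancel]
  have hconj : ∀ m, S * lM m * S = l ⟨_, hsm m⟩ * ε m := fun m => by
    simp only [ε, mul_inv_cancel_left]
  let εh : M →* σ.ker :=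
    { toFun := fun m => ⟨ε m, hε m⟩
      map_one' := Subtype.ext (by
        have : (⟨_, hsm 1⟩ : H) = 1 := Subtype.ext (by simp [hs])
        show ε 1 = 1
        simp only [ε, this, map_one, inv_one, mul_one, hSS])
      map_mul' := fun a b => Subtype.ext (by
        show ε (a * b) = ε a * ε b
        have e : (⟨_, hsm (a * b)⟩ : H) = ⟨_, hsm a⟩ * ⟨_, hsm b⟩ := Subtype.ext (by
          show s * ((a : G) * b) * s = s * a * s * (s * b * s)
          calc s * ((a : G) * b) * s = s * a * (s * s) * b * s := by rw [hs]; group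
            _ = _ := by group)
        have h : S * lM (a * b) * S = l ⟨_, hsm (a * b)⟩ * (ε a * ε b) := by
          calc S * lM (a * b) * S = S * lM a * (S * S) * lM b * S := by rw [map_mul, hSS]; group
            _ = S * lM a * S * (S * lM b * S) := by group
            _ = l ⟨_, hsm a⟩ * ε a * (l ⟨_, hsm b⟩ * ε b) := by rw [hconj, hconj]
            _ = l ⟨_, hsm a⟩ * (ε a * l ⟨_, hsm b⟩) * ε b := by group
            _ = _ := by rw [← central (hε a), e, map_mul]; group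
        rw [hconj] at h
        exact mul_left_cancel h) }
  set E : Subgroup Γ := εh.range.map σ.ker.subtype
  have hEker : E ≤ σ.ker := by rintro _ ⟨x, -, rfl⟩; exact x.2
  have hεE : ∀ m, ε m ∈ E := fun m => ⟨εh m, ⟨m, rfl⟩, rfl⟩
  have hEc : ∀ {e : Γ}, e ∈ E → ∀ g, g * e = e * g := fun he => central (hEker he)
  -- the candidate subgroup
  let U : Set Γ := {x | (∃ h : H, ∃ e ∈ E, x = l h * e) ∨
    ∃ h h' : H, ∃ e ∈ E, x = l h * S * l h' * e}
  have hSlS : ∀ h : H, S * l h * S ∈ U := by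
    intro h
    rcases hHcases h h.2 with hm | ⟨m, hm, m', hm', he⟩
    · exact Or.inl ⟨_, _, hεE ⟨h, hm⟩, hconj ⟨h, hm⟩⟩
    · refine Or.inr ⟨⟨_, hsm ⟨m, hm⟩⟩ * ⟨t, htH⟩, ⟨t, htH⟩ * ⟨_, hsm ⟨m', hm'⟩⟩,
        ε ⟨m, hm⟩ * ε ⟨m', hm'⟩, mul_mem (hεE _) (hεE _), ?_⟩
      have eh : h = Subgroup.inclusion hMH ⟨m, hm⟩ * ⟨t, htH⟩ * Subgroup.inclusion hMH ⟨m', hm'⟩ :=
        Subtype.ext he
      calc S * l h * S = S * lM ⟨m, hm⟩ * (S * S) * T * (S * S) * lM ⟨m', hm'⟩ * S := by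
            rw [eh, map_mul, map_mul, hSS]; simp only [T, lM, MonoidHom.comp_apply]; group
        _ = S * lM ⟨m, hm⟩ * S * (S * T * S) * (S * lM ⟨m', hm'⟩ * S) := by group
        _ = l ⟨_, hsm ⟨m, hm⟩⟩ * (ε ⟨m, hm⟩ * (T * S * T * l ⟨_, hsm ⟨m', hm'⟩⟩)) * ε ⟨m', hm'⟩ := by
            rw [hconj, hconj, hbraid]; group
        _ = l ⟨_, hsm ⟨m, hm⟩⟩ * T * S * (T * l ⟨_, hsm ⟨m', hm'⟩⟩) * (ε ⟨m, hm⟩ * ε ⟨m', hm'⟩) := by
            rw [← central (hε _) (T * S * T * l ⟨_, hsm ⟨m', hm'⟩⟩)]; group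
        _ = _ := by rw [map_mul, map_mul]
  have hUleft : ∀ (h : H) x, x ∈ U → l h * x ∈ U := by
    rintro h x (⟨a, e, he, rfl⟩ | ⟨a, b, e, he, rfl⟩)
    · exact Or.inl ⟨h * a, e, he, by rw [map_mul, mul_assoc]⟩
    · exact Or.inr ⟨h * a, b, e, he, by rw [map_mul]; group⟩
  have hUE : ∀ e ∈ E, ∀ x ∈ U, x * e ∈ U := by
    rintro e he x (⟨a, e', he', rfl⟩ | ⟨a, b, e', he', rfl⟩)
    · exact Or.inl ⟨a, e' * e, mul_mem he' he, by rw [mul_assoc]⟩
    · exact Or.inr ⟨a, b, e' * e, mul_mem he' he, by rw [mul_assoc]⟩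
  have hUright : ∀ (h : H) x, x ∈ U → x * l h ∈ U := by
    rintro h x (⟨a, e, he, rfl⟩ | ⟨a, b, e, he, rfl⟩)
    · exact Or.inl ⟨a * h, e, he, by rw [map_mul, mul_assoc, ← hEc he]; group⟩
    · exact Or.inr ⟨a, b * h, e, he, by rw [map_mul, mul_assoc, ← hEc he]; group⟩
  have hUS : ∀ x ∈ U, x * S ∈ U := by
    rintro x (⟨a, e, he, rfl⟩ | ⟨a, b, e, he, rfl⟩)
    · exact Or.inr ⟨a, 1, e, he, by rw [map_one, mul_one, mul_assoc, ← hEc he]; group⟩
    · have e1 : l a * S * l b * e * S = l a * (S * l b * S) * e := by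
        rw [mul_assoc _ e S, ← hEc he]; group
      rw [e1]
      exact hUE e he _ (hUleft a _ (hSlS b))
  let U' : Submonoid Γ :=
    { carrier := U
      one_mem' := Or.inl ⟨1, 1, one_mem _, by rw [map_one, mul_one]⟩
      mul_mem' := by
        rintro x y hx (⟨a, e, he, rfl⟩ | ⟨a, b, e, he, rfl⟩)
        · rw [← mul_assoc]; exact hUE e he _ (hUright a _ hx)
        · rw [← mul_assoc, ← mul_assoc, ← mul_assoc]
          exact hUE e he _ (hUright b _ (hUS _ (hUright a _ hx))) }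
  let W : Subgroup Γ :=
    { U' with
      inv_mem' := fun {x} hx => by
        have h : x⁻¹ = x ^ (orderOf x - 1) := by
          rw [inv_eq_iff_mul_eq_one, ← pow_succ', Nat.sub_add_cancel (orderOf_pos x), pow_orderOf_eq_one]
        rw [h]; exact U'.pow_mem hx _ }
  have hWsurj : ∀ g, ∃ w ∈ W, σ w = g := by
    intro g
    rcases hGcases g with hg | ⟨h, hh, h', hh', rfl⟩
    · exact ⟨l ⟨g, hg⟩, Or.inl ⟨_, 1, one_mem _, (mul_one _).symm⟩, hl _⟩
    · exact ⟨l ⟨h, hh⟩ * S * l ⟨h', hh'⟩, Or.inr ⟨_, _, 1, one_mem _, (mul_one _).symm⟩,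
        by rw [map_mul, map_mul, hl, hl, hS]⟩
  have hcomm : commutator Γ ≤ W := by
    rw [commutator_def, Subgroup.commutator_le]
    intro x _ y _
    obtain ⟨a, ha, hax⟩ := hWsurj (σ x)
    obtain ⟨b, hb, hby⟩ := hWsurj (σ y)
    have hx : σ (a⁻¹ * x) = 1 := by rw [map_mul, map_inv, hax, inv_mul_cancel]
    have hy : σ (b⁻¹ * y) = 1 := by rw [map_mul, map_inv, hby, inv_mul_cancel]
    obtain ⟨k, hk, rfl⟩ : ∃ k, σ k = 1 ∧ x = a * k := ⟨_, hx, by rw [mul_inv_cancel_left]⟩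
    obtain ⟨j, hj, rfl⟩ : ∃ j, σ j = 1 ∧ y = b * j := ⟨_, hy, by rw [mul_inv_cancel_left]⟩
    have : ⁅a * k, b * j⁆ = ⁅a, b⁆ := by
      rw [commutatorElement_def, commutatorElement_def, mul_inv_rev, mul_inv_rev]
      calc a * k * (b * j) * (k⁻¹ * a⁻¹) * (j⁻¹ * b⁻¹)
          = a * b * (k * j) * (k⁻¹ * a⁻¹) * (j⁻¹ * b⁻¹) := by
            rw [mul_assoc a k (b * j), ← mul_assoc k b j, ← central hk b]; group
        _ = a * b * (j * (k * k⁻¹) * a⁻¹) * (j⁻¹ * b⁻¹) := by rw [← central hk j]; group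
        _ = a * b * (a⁻¹ * j) * (j⁻¹ * b⁻¹) := by rw [mul_inv_cancel, mul_one, ← central hj a⁻¹]
        _ = a * b * a⁻¹ * b⁻¹ := by group
    rw [this, commutatorElement_def]
    exact mul_mem (mul_mem (mul_mem ha hb) (inv_mem ha)) (inv_mem hb)
  have hker : σ.ker ≤ E := by
    intro k hk
    have hk1 : σ k = 1 := hk
    rcases hcomm (hd hk) with ⟨h, e, he, rfl⟩ | ⟨h, h', e, he, rfl⟩
    · rw [map_mul, hEker he, mul_one, hl] at hk1
      have : h = 1 := Subtype.ext hk1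
      rw [this, map_one, one_mul]; exact he
    · rw [map_mul, hEker he, mul_one, map_mul, map_mul, hl, hl, hS] at hk1
      refine absurd ?_ hsH
      have : s = (h : G)⁻¹ * (h' : G)⁻¹ := by
        calc s = (h : G)⁻¹ * ((h : G) * s * h') * (h' : G)⁻¹ := by group
          _ = _ := by rw [hk1]; group
      rw [this]
      exact mul_mem (inv_mem h.2) (inv_mem h'.2)
  calc Nat.card σ.ker ≤ Nat.card E := Nat.card_le_card_of_injective _ (Subgroup.inclusion_injective hker)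
    _ = Nat.card εh.range := Nat.card_congr
        (Subgroup.equivMapOfInjective _ _ (Subgroup.subtype_injective _)).toEquiv.symm
    _ ≤ n := hn σ.ker εh hc

end Cfsg.Agent.Transfer.TwoPointLift
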